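import Cfsg.Agent.Components.TwoCompPair.Subnormal
import Cfsg.Agent.Components.PCompCentralizer
import Cfsg.Agent.Components.LBalanceTwo.Balance
import Cfsg.Agent.InvolCalc.ZStarApps
import Cfsg.Agent.S0542

/-!
Two-components with one involution in centralizers of involutions.
-/

set_option linter.style.haveILetI false
set_option linter.unusedSectionVars false

namespace Cfsg.Lib.TwoCompPair

open Subgroup Cfsg.Lib.Components
open scoped commutatorElement

universe u

variable {G : Type u} [Group G] [Finite G]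

theorem pLayer_map_equiv {H : Type*} [Group H] [Finite H] (e : G ≃* H) :
    (pLayer 2 G).map e.toMonoidHom = pLayer 2 H := by
  refine le_antisymm ?_ ?_
  · rw [pLayer, sSup_eq_iSup, Subgroup.map_iSup]
    refine iSup_le fun K => ?_
    rw [Subgroup.map_iSup]
    exact iSup_le fun hK => le_sSup (pcomp_map_equiv hK e)
  · refine sSup_le fun K hK => ?_
    have h : K.map e.symm.toMonoidHom ≤ pLayer 2 G := le_sSup (pcomp_map_equiv hK e.symm)
    have := Subgroup.map_mono (f := e.toMonoidHom) h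
    rwa [map_map, show e.toMonoidHom.comp e.symm.toMonoidHom = MonoidHom.id H from
      MonoidHom.ext fun x => e.apply_symm_apply x, map_id] at this

theorem pLayerOf_map {H : Type*} [Group H] [Finite H] (f : G →* H) (hf : Function.Injective f)
    (A : Subgroup G) : pLayerOf 2 (A.map f) = (pLayerOf 2 A).map f := by
  rw [pLayerOf, pLayerOf, ← pLayer_map_equiv (A.equivMapOfInjective f hf), map_map, map_map]
  rfl

theorem pLayerOf_le (H : Subgroup G) : pLayerOf 2 H ≤ H := map_subtype_le _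

theorem pLayerOf_perfect (H : Subgroup G) : ⁅pLayerOf 2 H, pLayerOf 2 H⁆ = pLayerOf 2 H := by
  rw [pLayerOf, ← Subgroup.map_commutator, pLayer_perfect]

theorem le_normalizer_pLayerOf (H : Subgroup G) : H ≤ normalizer (pLayerOf 2 H : Set G) := by
  intro h hh
  refine Cfsg.Lib.ZStarApps.mem_normalizer_of_maps ?_
  rintro _ ⟨x, hx, rfl⟩
  haveI : (pLayer 2 H).Normal := pLayer_normal
  exact ⟨⟨h, hh⟩ * x * ⟨h, hh⟩⁻¹, (inferInstance : (pLayer 2 H).Normal).conj_mem x hx _, rfl⟩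

theorem pLayerOf_mono {A M : Subgroup G} (hle : A ≤ M) (hsn : (A.subgroupOf M).IsSubnormal) :
    pLayerOf 2 A ≤ pLayerOf 2 M := by
  have h : pLayerOf 2 (A.subgroupOf M) ≤ pLayer 2 M := by
    rw [pLayerOf, map_le_iff_le_comap]
    refine sSup_le fun K hK => ?_
    rw [← map_le_iff_le_comap]
    exact le_sSup ((pcomp_map_subtype_iff hsn).2 hK)
  calc pLayerOf 2 A = pLayerOf 2 ((A.subgroupOf M).map M.subtype) := by
        rw [map_subgroupOf_eq_of_le hle]
    _ = (pLayerOf 2 (A.subgroupOf M)).map M.subtype := pLayerOf_map _ M.subtype_injective _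
    _ ≤ _ := Subgroup.map_mono h

/-- the centralizer of `u` -/
abbrev C (u : G) : Subgroup G := centralizer ({u} : Set G)

/-- the quotient map of `C(u)` by its core -/
abbrev q (u : G) : C u →* C u ⧸ pPrimeCore 2 (C u) := QuotientGroup.mk' _

/-- the core of `C(u)` -/
def O (u : G) : Subgroup G := (pPrimeCore 2 (C u)).map (C u).subtype

/-- the 2-layer of `C(u)` -/
def L (u : G) : Subgroup G := pLayerOf 2 (C u)

/-- the 2-layer of `C(u) ∩ C(w)` -/
def LL (u w : G) : Subgroup G := pLayerOf 2 (C u ⊓ C w)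

theorem mem_C {u x : G} : x ∈ C u ↔ Commute x u := mem_centralizer_singleton_iff

theorem self_mem_C (u : G) : u ∈ C u := mem_C.2 (Commute.refl u)

theorem O_le (u : G) : O u ≤ C u := map_subtype_le _

theorem O_odd (u : G) : Odd (Nat.card (O u)) :=
  Odd.of_dvd_nat (odd_of_coprime_two (coprime_card_pPrimeCore 2)) (card_map_dvd _ _)

theorem C_le_normalizer_O (u : G) : C u ≤ normalizer (O u : Set G) := by
  intro h hh
  refine Cfsg.Lib.ZStarApps.mem_normalizer_of_maps ?_
  rintro _ ⟨x, hx, rfl⟩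
  exact ⟨⟨h, hh⟩ * x * ⟨h, hh⟩⁻¹, (pPrimeCore_normal' 2).conj_mem x hx _, rfl⟩

theorem mem_O_iff {u : G} {x : C u} : (x : G) ∈ O u ↔ q u x = 1 := by
  refine ⟨fun ⟨y, hy, he⟩ => ?_, fun h => ⟨x, (QuotientGroup.eq_one_iff x).1 h, rfl⟩⟩
  rw [← Subtype.ext he]
  exact (QuotientGroup.eq_one_iff y).2 hy

theorem q_eq_iff {u : G} {a b : C u} : q u a = q u b ↔ (a : G)⁻¹ * b ∈ O u := by
  rw [show ((a : G)⁻¹ * b) = ((a⁻¹ * b : C u) : G) from rfl, mem_O_iff, map_mul, map_inv,
    inv_mul_eq_one]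

theorem commute_q_iff {u : G} {a b : C u} :
    Commute (q u a) (q u b) ↔ ⁅(a : G), (b : G)⁆ ∈ O u := by
  rw [show ⁅(a : G), (b : G)⁆ = ((⁅a, b⁆ : C u) : G) from rfl, mem_O_iff, map_commutatorElement,
    commutatorElement_eq_one_iff_commute]

theorem L_le (u : G) : L u ≤ C u := pLayerOf_le _

theorem L_perfect (u : G) : ⁅L u, L u⁆ = L u := pLayerOf_perfect _

theorem C_le_normalizer_L (u : G) : C u ≤ normalizer (L u : Set G) := le_normalizer_pLayerOf _

theorem LL_le (u w : G) : LL u w ≤ C u ⊓ C w := pLayerOf_le _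

theorem LL_perfect (u w : G) : ⁅LL u w, LL u w⁆ = LL u w := pLayerOf_perfect _

theorem LL_comm (u w : G) : LL u w = LL w u := by rw [LL, LL, inf_comm]

theorem C_map_cj (u g : G) : (C u).map (cj g) = C (g⁻¹ * u * g) := by
  ext x
  constructor
  · rintro ⟨y, hy, rfl⟩
    rw [mem_C, ← cj_apply g u]
    exact (mem_C.1 hy).map _
  · intro hx
    refine ⟨g * x * g⁻¹, mem_C.2 ?_, by rw [cj_apply]; group⟩
    have := (mem_C.1 hx).map (cj g⁻¹)
    rw [cj_apply, cj_apply, inv_inv, show g * (g⁻¹ * u * g) * g⁻¹ = u by group] at this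
    exact this

theorem LL_map_cj (u w g : G) : (LL u w).map (cj g) = LL (g⁻¹ * u * g) (g⁻¹ * w * g) := by
  rw [LL, LL, ← pLayerOf_map (cj g) (cj_injective g), map_inf _ _ _ (cj_injective g), C_map_cj,
    C_map_cj]

/-- balance for the 2-layer -/
theorem LL_le_L {u w : G} (hw : w * w = 1) (huw : Commute w u) : LL u w ≤ L u := by
  set w' : C u := ⟨w, mem_C.2 huw⟩
  have hbal := Cfsg.Lib.LBalTwo.pLayer_centralizer_le (zpowers w')
    (isPGroup_zpowers_invol (Subtype.ext hw))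
  have hc : (centralizer (zpowers w' : Set (C u))).map (C u).subtype = C u ⊓ C w := by
    ext x
    constructor
    · rintro ⟨y, hy, rfl⟩
      exact ⟨y.2, mem_C.2 (congrArg Subtype.val (hy w' (mem_zpowers w'))).symm⟩
    · rintro ⟨hx, hx'⟩
      refine ⟨⟨x, hx⟩, ?_, rfl⟩
      rw [zpowers_eq_closure, centralizer_closure]
      exact mem_centralizer_singleton_iff.2 (Subtype.ext (mem_C.1 hx'))
  rw [LL, ← hc, pLayerOf_map _ (C u).subtype_injective]
  exact Subgroup.map_mono hbal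

/-- `J` is a 2-component of `C(u)` in which `u` is the only involution -/
structure TC (u : G) (J : Subgroup G) : Prop where
  le : J ≤ C u
  comp : IsPComponent 2 (J.subgroupOf (C u))
  mem : u ∈ J
  two : orderOf u = 2
  uniq : ∀ t ∈ J, orderOf t = 2 → t = u

/-- a Sylow 2-subgroup of a subgroup -/
def IsSyl (P H : Subgroup G) : Prop := P ≤ H ∧ IsPGroup 2 P ∧ ¬ 2 ∣ P.relIndex H

theorem exists_isSyl {H A : Subgroup G} (hA : IsPGroup 2 A) (hle : A ≤ H) :
    ∃ P, IsSyl P H ∧ A ≤ P := by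
  haveI : Fact (Nat.Prime 2) := ⟨Nat.prime_two⟩
  obtain ⟨S, hS⟩ := (hA.comap_subtype (K := H)).exists_le_sylow
  refine ⟨(S : Subgroup H).map H.subtype, ⟨map_subtype_le _, S.2.map _, ?_⟩,
    fun a ha => ⟨⟨a, hle ha⟩, hS ha, rfl⟩⟩
  rw [relIndex, subgroupOf, comap_map_eq_self_of_injective H.subtype_injective]
  exact S.not_dvd_index

theorem IsSyl.exists_sylow {P H : Subgroup G} (h : IsSyl P H) :
    ∃ S : Sylow 2 H, (S : Subgroup H) = P.subgroupOf H := by
  haveI : Fact (Nat.Prime 2) := ⟨Nat.prime_two⟩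
  exact ⟨(h.2.1.comap_subtype (K := H)).toSylow h.2.2, rfl⟩

theorem IsSyl.card_eq {P H : Subgroup G} (h : IsSyl P H) :
    Nat.card P = 2 ^ (Nat.card H).factorization 2 := by
  haveI : Fact (Nat.Prime 2) := ⟨Nat.prime_two⟩
  obtain ⟨S, hS⟩ := h.exists_sylow
  rw [← S.card_eq_multiplicity, hS, Nat.card_congr (subgroupOfEquivOfLe h.1).toEquiv]

variable {u : G} {J J' : Subgroup G}

theorem TC.mul_self (h : TC u J) : u * u = 1 := mul_self_of_two h.two

theorem TC.ne_one (h : TC u J) : u ≠ 1 := ne_one_of_two h.two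

theorem TC.commute (h : TC u J) {x : G} (hx : x ∈ J) : Commute x u := mem_C.1 (h.le hx)

theorem TC.perfect (h : TC u J) : ⁅J, J⁆ = J := by
  have := congrArg (Subgroup.map (C u).subtype) (pcomp_perfect h.comp)
  rwa [Subgroup.map_commutator, map_subgroupOf_eq_of_le h.le] at this

theorem TC.perfect' (h : TC u J) : commutator J = ⊤ := by
  apply Subgroup.map_injective J.subtype_injective
  rw [_root_.commutator_def, Subgroup.map_commutator, ← MonoidHom.range_eq_map, range_subtype,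
    h.perfect]

theorem TC.ext_q (h : TC u J) (h' : TC u J')
    (e : (J.subgroupOf (C u)).map (q u) = (J'.subgroupOf (C u)).map (q u)) : J = J' := by
  have := congrArg (Subgroup.map (C u).subtype) (pcomp_eq_of_image_eq h.comp h'.comp e)
  rwa [map_subgroupOf_eq_of_le h.le, map_subgroupOf_eq_of_le h'.le] at this

theorem TC.ne_subgroupOf (h : TC u J) (h' : TC u J') (hne : J ≠ J') :
    J.subgroupOf (C u) ≠ J'.subgroupOf (C u) := fun e => hne <| by
  have := congrArg (Subgroup.map (C u).subtype) e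
  rwa [map_subgroupOf_eq_of_le h.le, map_subgroupOf_eq_of_le h'.le] at this

theorem TC.le_L (h : TC u J) : J ≤ L u := by
  rw [← map_subgroupOf_eq_of_le h.le]
  exact Subgroup.map_mono (le_sSup h.comp)

theorem TC.normalizer_of_subgroupOf (h : TC u J) {g : C u}
    (hg : g ∈ normalizer (J.subgroupOf (C u) : Set (C u))) : (g : G) ∈ normalizer (J : Set G) := by
  refine Cfsg.Lib.ZStarApps.mem_normalizer_of_maps fun a ha => ?_
  exact (mem_normalizer_iff.1 hg ⟨a, h.le ha⟩).1 ha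

theorem TC.L_normalizes (h : TC u J) : L u ≤ normalizer (J : Set G) := by
  rintro _ ⟨l, hl, rfl⟩
  exact h.normalizer_of_subgroupOf (pLayer_le_normalizer_pcomp h.comp hl)

theorem TC.O_normalizes (h : TC u J) : O u ≤ normalizer (J : Set G) := by
  rintro _ ⟨l, hl, rfl⟩
  exact h.normalizer_of_subgroupOf (pPrimeCore_le_normalizer_pcomp h.comp hl)

theorem TC.commutator_mem_O (h : TC u J) (h' : TC u J') (hne : J ≠ J') {a b : G} (ha : a ∈ J)
    (hb : b ∈ J') : ⁅a, b⁆ ∈ O u :=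
  ⟨⁅(⟨a, h.le ha⟩ : C u), ⟨b, h'.le hb⟩⁆, pcomp_commute h.comp h'.comp (h.ne_subgroupOf h' hne)
    (commutator_mem_commutator (show (⟨a, h.le ha⟩ : C u) ∈ J.subgroupOf (C u) from ha)
      (show (⟨b, h'.le hb⟩ : C u) ∈ J'.subgroupOf (C u) from hb)), rfl⟩

theorem TC.conj (h : TC u J) {g : G} (hg : Commute g u) : TC u (J.map (cj g)) := by
  have hgu : g⁻¹ * u * g = u := (cj_apply g u).symm.trans (cj_eq_self hg)
  set g' : C u := ⟨g, mem_C.2 hg⟩
  have hle : J.map (cj g) ≤ C u := (Subgroup.map_mono h.le).trans (by rw [C_map_cj, hgu])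
  refine ⟨hle, ?_, by have := mem_map_cj (g := g) h.mem; rwa [hgu] at this, h.two, ?_⟩
  · have e : (J.map (cj g)).subgroupOf (C u) =
        (J.subgroupOf (C u)).map (MulAut.conj g'⁻¹).toMonoidHom := by
      apply Subgroup.map_injective (C u).subtype_injective
      rw [map_subgroupOf_eq_of_le hle, map_map,
        show (C u).subtype.comp (MulAut.conj g'⁻¹).toMonoidHom = (cj g).comp (C u).subtype from
          MonoidHom.ext fun _ => rfl, ← map_map, map_subgroupOf_eq_of_le h.le]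
    rw [e]
    exact pcomp_conj h.comp _
  · rintro _ ⟨t, ht, rfl⟩ ho
    rw [orderOf_injective (cj g) (cj_injective g)] at ho
    rw [h.uniq t ht ho, cj_apply, hgu]

theorem TC.exists_qs (h : TC u J) {P : Subgroup G} (hP : IsSyl P J) : ∃ A, QS P A u := by
  haveI : Fact (Nat.Prime 2) := ⟨Nat.prime_two⟩
  have huP : u ∈ P := by
    have hd : 2 ∣ Nat.card P := by
      rw [hP.card_eq]
      refine dvd_pow_self 2 ?_
      have h2 : 2 ∣ Nat.card J := h.two ▸ (Subgroup.orderOf_coe (⟨u, h.mem⟩ : J)) ▸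
        orderOf_dvd_natCard _
      exact (Nat.Prime.factorization_pos_of_dvd Nat.prime_two Nat.card_pos.ne' h2).ne'
    obtain ⟨⟨c, hc⟩, hco⟩ := exists_prime_orderOf_dvd_card' 2 hd
    have hco' : orderOf c = 2 := (Subgroup.orderOf_coe (⟨c, hc⟩ : P)).trans hco
    exact h.uniq c (hP.1 hc) hco' ▸ hc
  refine TwoCompPair.exists_qs hP.2.1 huP h.two (fun t ht => h.uniq t (hP.1 ht)) ?_
  intro hc
  obtain ⟨S, hS⟩ := hP.exists_sylow
  refine not_isCyclic_sylow h.perfect' S ⟨⟨u, h.mem⟩, fun e => h.ne_one (congrArg Subtype.val e)⟩ ?_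
  rw [hS]
  haveI := hc
  exact isCyclic_of_surjective (subgroupOfEquivOfLe hP.1).symm.toMonoidHom (MulEquiv.surjective _)

/-- elements of a 2-group commuting modulo the core commute -/
theorem commute_of_mem {P : Subgroup G} (hP : IsPGroup 2 P) {a b : G} (ha : a ∈ P) (hb : b ∈ P)
    (h : ⁅a, b⁆ ∈ O u) : Commute a b :=
  commutatorElement_eq_one_iff_commute.1 (eq_one_of_two_odd (O_odd u) h (isPGroup_zpowers_of_mem hP
    (commutator_le_self P (commutator_mem_commutator ha hb))))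

theorem TC.two_elt_central (h : TC u J) {k : G} (hk : k ∈ J) (hk2 : IsPGroup 2 (zpowers k))
    (hc : ∀ a ∈ J, ⁅k, a⁆ ∈ O u) : k = 1 ∨ k = u := by
  obtain ⟨P, hP, hkP⟩ := exists_isSyl hk2 (zpowers_le.2 hk)
  obtain ⟨A, qs⟩ := h.exists_qs hP
  exact qs.central (hkP (mem_zpowers k))
    fun t ht => commute_of_mem hP.2.1 (hkP (mem_zpowers k)) ht (hc t (hP.1 ht))

/-- elements of `J` central modulo the core -/
theorem TC.central (h : TC u J) {k : G} (hk : k ∈ J) (hc : ∀ a ∈ J, ⁅k, a⁆ ∈ O u) :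
    k ∈ O u ∨ u * k ∈ O u := by
  haveI : Fact (Nat.Prime 2) := ⟨Nat.prime_two⟩
  set k' : C u := ⟨k, h.le hk⟩
  set J' := (J.subgroupOf (C u)).map (q u)
  have hJ' : IsComponent J' := pcomp_image h.comp
  have hkJ : q u k' ∈ J' := mem_map_of_mem _ (show k' ∈ J.subgroupOf (C u) from hk)
  have hcen : (⟨q u k', hkJ⟩ : J') ∈ center J' := by
    rw [mem_center_iff]
    rintro ⟨_, a, ha, rfl⟩
    exact Subtype.ext ((commute_q_iff.2 (hc a ha)).eq).symm
  obtain ⟨i, hi⟩ := comp_center_isPGroup (p := 2) pPrimeCore_quotient_eq_bot hJ' ⟨_, hcen⟩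
  have hi' : q u k' ^ 2 ^ i = 1 := by
    have := congrArg (fun x : center J' => ((x : J') : C u ⧸ pPrimeCore 2 (C u))) hi
    simpa using this
  obtain ⟨e, r, hr, her⟩ := Nat.exists_eq_two_pow_mul_odd (orderOf_pos k).ne'
  have hkr : k ^ r = 1 ∨ k ^ r = u := by
    refine h.two_elt_central (pow_mem hk r) (isPGroup_zpowers_of_sq (k := e)
      (by rw [← pow_mul, mul_comm, ← her, pow_orderOf_eq_one])) fun a ha => ?_
    have hcq : Commute (q u k') (q u ⟨a, h.le ha⟩) := commute_q_iff.2 (hc a ha)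
    exact (commute_q_iff (a := k' ^ r) (b := ⟨a, h.le ha⟩)).1 (by rw [map_pow]; exact hcq.pow_left r)
  have key : ∀ x : C u, q u x ^ 2 ^ i = 1 → (x : G) ^ r = 1 → (x : G) ∈ O u := fun x hx hxr => by
    rw [mem_O_iff, ← orderOf_eq_one_iff]
    exact Nat.eq_one_of_dvd_coprimes
      (Nat.Coprime.pow_left i (Nat.coprime_two_left.2 hr)) (orderOf_dvd_of_pow_eq_one hx)
      (orderOf_dvd_of_pow_eq_one (by
        rw [← map_pow, show x ^ r = 1 from Subtype.ext hxr, map_one]))
  rcases hkr with e1 | e1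
  · exact Or.inl (key k' hi' e1)
  · right
    have hu2 : ∀ n, u ^ (2 * n + 1) = u := fun n => by
      rw [pow_succ, pow_mul, pow_two, h.mul_self, one_pow, one_mul]
    obtain ⟨n, rfl⟩ := hr
    refine key (⟨u, self_mem_C u⟩ * k') ?_ ?_
    · cases i with
      | zero =>
        exfalso
        rw [pow_zero, pow_one] at hi'
        have hk0 : k ∈ O u := (mem_O_iff (x := k')).2 hi'
        have hu0 := pow_mem hk0 (2 * n + 1)
        rw [e1] at hu0
        exact h.ne_one (eq_one_of_two_odd (O_odd u) hu0 (isPGroup_zpowers_invol h.mul_self))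
      | succ i =>
        have hc1 : Commute (q u ⟨u, self_mem_C u⟩) (q u k') :=
          (show Commute (⟨u, self_mem_C u⟩ : C u) k' from Subtype.ext (h.commute hk).symm.eq).map _
        rw [map_mul, hc1.mul_pow, hi', mul_one, ← map_pow, pow_succ', pow_mul, pow_two,
          show (⟨u, self_mem_C u⟩ : C u) * ⟨u, self_mem_C u⟩ = 1 from Subtype.ext h.mul_self,
          one_pow, map_one]
    · show (u * k) ^ (2 * n + 1) = 1
      rw [(h.commute hk).symm.mul_pow, hu2, e1, h.mul_self]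

/-- the images of distinct components meet in `⟨u⟩` -/
theorem TC.inter (h : TC u J) (h' : TC u J') (hne : J ≠ J') {k k' : G} (hk : k ∈ J) (hk' : k' ∈ J')
    (e : k⁻¹ * k' ∈ O u) : k ∈ O u ∨ u * k ∈ O u := by
  refine h.central hk fun a ha => ?_
  have h1 : q u ⟨k, h.le hk⟩ = q u ⟨k', h'.le hk'⟩ := q_eq_iff.2 e
  refine (commute_q_iff (a := ⟨k, h.le hk⟩) (b := ⟨a, h.le ha⟩)).1 ?_
  rw [h1]
  exact (commute_q_iff.2 (h.commutator_mem_O h' hne ha hk')).symm

theorem TC.inter_two (h : TC u J) (h' : TC u J') (hne : J ≠ J') {k k' : G} (hk : k ∈ J)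
    (hk' : k' ∈ J') (e : k⁻¹ * k' ∈ O u) (hk2 : IsPGroup 2 (zpowers k)) : k = 1 ∨ k = u := by
  refine h.two_elt_central hk hk2 fun a ha => ?_
  have h1 : q u ⟨k, h.le hk⟩ = q u ⟨k', h'.le hk'⟩ := q_eq_iff.2 e
  refine (commute_q_iff (a := ⟨k, h.le hk⟩) (b := ⟨a, h.le ha⟩)).1 ?_
  rw [h1]
  exact (commute_q_iff.2 (h.commutator_mem_O h' hne ha hk')).symm

theorem TC.le_O_of_odd (h : TC u J) {N : Subgroup G} (hN : N ≤ J) (hn : J ≤ normalizer (N : Set G))
    (ho : Odd (Nat.card N)) : N ≤ O u := by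
  rw [← map_subgroupOf_eq_of_le (hN.trans h.le)]
  refine Subgroup.map_mono (le_pPrimeCore_of_subnormal ?_ ?_)
  · refine isSubnormal_of_normal_in h.comp.1 (fun x hx => hN hx) fun g hg => ?_
    rw [mem_normalizer_iff]
    exact fun x => mem_normalizer_iff.1 (hn hg) x
  · rw [Nat.card_congr (subgroupOfEquivOfLe (hN.trans h.le)).toEquiv]
    exact coprime_two_of_odd ho

/-- an element commuting with an involution modulo the core can be lifted to one commuting exactly -/
theorem TC.fix_lift (h : TC u J) {w : G} (hw : w * w = 1) (hwu : Commute w u)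
    (hwJ : w ∈ normalizer (J : Set G)) {k : G} (hk : k ∈ J) (e : ⁅w, k⁆ ∈ O u) :
    ∃ k' ∈ J, k⁻¹ * k' ∈ O u ∧ Commute k' w := by
  set w' := k⁻¹ * w * k with hw'
  have hw'2 : w' * w' = 1 := by
    rw [hw', show k⁻¹ * w * k * (k⁻¹ * w * k) = k⁻¹ * (w * w) * k by group, hw]; group
  have ho : w' * w ∈ O u ⊓ J := by
    refine Subgroup.mem_inf.2 ⟨?_, ?_⟩
    · rw [show w' * w = k⁻¹ * ⁅w, k⁆ * k⁻¹⁻¹ by
        rw [hw', commutatorElement_def, invol_inv hw]
        group]
      exact (mem_normalizer_iff.1 (C_le_normalizer_O u (inv_mem (h.le hk))) _).1 e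
    · rw [show w' * w = k⁻¹ * (w * k * w) by rw [hw']; group]
      refine mul_mem (inv_mem hk) ?_
      have := (mem_normalizer_iff.1 hwJ k).1 hk
      rwa [invol_inv hw] at this
  obtain ⟨c, hc, hcw⟩ := invol_conj hw'2 hw (odd_orderOf_of_mem (O_odd u) ho.1)
  refine ⟨k * c, mul_mem hk (zpowers_le.2 ho.2 hc), ?_, ?_⟩
  · rw [inv_mul_cancel_left]; exact zpowers_le.2 ho.1 hc
  · apply commute_of_cj
    rw [cj_apply]
    rw [show (k * c)⁻¹ * w * (k * c) = c⁻¹ * w' * c by rw [hw']; group, hcw]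

/-- either the involution centralizes `J` modulo the core or it is conjugate to `w u` -/
theorem TC.zstar (h : TC u J) {w : G} (hw : w * w = 1) (hwu : Commute w u)
    (hwJ : w ∈ normalizer (J : Set G)) :
    (∀ k ∈ J, ⁅w, k⁆ ∈ O u) ∨ ∃ c ∈ J, c⁻¹ * w * c = w * u := by
  by_cases h1 : w = 1
  · left
    intro k _
    rw [h1, commutatorElement_one_left]
    exact one_mem _
  have hwinv : w⁻¹ = w := invol_inv hw
  set M := J ⊔ zpowers w
  have hJM : J ≤ M := le_sup_left
  have hwM : w ∈ M := mem_sup_right (mem_zpowers w)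
  have hnorm : zpowers w ≤ normalizer (J : Set G) := zpowers_le.2 hwJ
  set w' : M := ⟨w, hwM⟩
  by_cases hiso : Cfsg.IsIsolatedInvolution w'
  · left
    intro k hk
    set N := ((pPrimeCore 2 M).map M.subtype ⊓ J)
    have hkN : ⁅w, k⁆ ∈ N := by
      refine ⟨⟨_, Cfsg.Lib.ZStarApps.zstarProp hiso ⟨k, hJM hk⟩, rfl⟩, ?_⟩
      show w * k * w⁻¹ * k⁻¹ ∈ J
      exact mul_mem ((mem_normalizer_iff.1 hwJ k).1 hk) (inv_mem hk)
    refine h.le_O_of_odd inf_le_right ?_ ?_ hkN
    · intro g hg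
      refine Cfsg.Lib.ZStarApps.mem_normalizer_of_maps fun a ha => Subgroup.mem_inf.2 ⟨?_, ?_⟩
      · obtain ⟨x, hx, rfl⟩ := ha.1
        exact ⟨⟨g, hJM hg⟩ * x * ⟨g, hJM hg⟩⁻¹, (pPrimeCore_normal' 2).conj_mem x hx _, rfl⟩
      · exact mul_mem (mul_mem hg ha.2) (inv_mem hg)
    · have h1 : Odd (Nat.card ((pPrimeCore 2 M).map M.subtype)) := Odd.of_dvd_nat
        (odd_of_coprime_two (coprime_card_pPrimeCore (G := M) 2)) (card_map_dvd _ _)
      have h2 : N ≤ (pPrimeCore 2 M).map M.subtype := inf_le_left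
      exact Odd.of_dvd_nat h1 (Subgroup.card_dvd_of_le h2)
  · right
    have ho : orderOf w' = 2 := orderOf_eq_two (Subtype.ext hw) (fun e => h1 (congrArg Subtype.val e))
    unfold Cfsg.IsIsolatedInvolution at hiso
    push Not at hiso
    obtain ⟨⟨g, hg⟩, hgc, hgne⟩ := hiso ho
    obtain ⟨k, hk, v, hv, rfl⟩ := (Cfsg.Lib.Coprime.mem_sup_of_le_normalizer hnorm).mp hg
    obtain ⟨n, rfl⟩ := mem_zpowers_iff.1 hv
    have hgw : (k * w ^ n) * w * (k * w ^ n)⁻¹ = k * w * k⁻¹ := by group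
    have hc : Commute w (k * w * k⁻¹) := by
      have := congrArg Subtype.val hgc.eq
      simp only [Subgroup.coe_mul, InvMemClass.coe_inv, w'] at this
      rw [hgw] at this
      exact this
    have hne : k * w * k⁻¹ ≠ w := fun e => hgne (Subtype.ext (by
      show (k * w ^ n) * w * (k * w ^ n)⁻¹ = w
      rw [hgw, e]))
    have hpJ : w * (k * w * k⁻¹) ∈ J := by
      rw [show w * (k * w * k⁻¹) = (w * k * w) * k⁻¹ by group]
      refine mul_mem ?_ (inv_mem hk)
      have := (mem_normalizer_iff.1 hwJ k).1 hk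
      rwa [hwinv] at this
    have hp2 : w * (k * w * k⁻¹) * (w * (k * w * k⁻¹)) = 1 := by
      rw [hc.symm.mul_mul_mul_comm, hw, one_mul,
        show k * w * k⁻¹ * (k * w * k⁻¹) = k * (w * w) * k⁻¹ by group, hw]
      group
    rcases uniq_of h.uniq hpJ hp2 with e | e
    · exact absurd (inv_eq_of_mul_eq_one_right e ▸ hwinv) hne
    · have e' : k * w * k⁻¹ = w * u := by
        rw [← e, ← mul_assoc, hw, one_mul]
      exact ⟨k⁻¹, inv_mem hk, by rw [inv_inv, e']⟩

/-- the fixed points of an element centralizing `J` modulo the core have the involution in their 2-layer -/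
theorem TC.mem_pLayerOf (h : TC u J) {w : G} (hw : orderOf w = 2) (hwu : Commute w u)
    (hc : ∀ k ∈ J, ⁅w, k⁆ ∈ O u) :
    u ∈ pLayerOf 2 (J ⊓ C w) ∧ pLayerOf 2 (J ⊓ C w) ≤ LL u w := by
  haveI : Fact (Nat.Prime 2) := ⟨Nat.prime_two⟩
  set w' : C u := ⟨w, mem_C.2 hwu⟩
  have hwn : w ∈ normalizer (J : Set G) := by
    refine h.normalizer_of_subgroupOf (g := w') (pcomp_mem_normalizer h.comp ?_)
    refine Subgroup.centralizer_le_normalizer _ ?_
    rintro _ ⟨a, ha, rfl⟩
    exact (commute_q_iff.2 (hc a ha)).eq.symm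
  have hw' : orderOf w' = 2 := (Subgroup.orderOf_coe w').symm.trans hw
  have key := pcomp_le_pLayerOf_centralizer (p := 2) h.comp hw' (by
    intro k hk
    rw [pPrimeCore_map_subtype_eq h.comp.1]
    refine Subgroup.mem_inf.2 ⟨?_, ?_⟩
    · have := (mem_O_iff (x := ⁅w', k⁆)).1 (hc k hk)
      exact (QuotientGroup.eq_one_iff _).1 this
    · exact mul_mem ((mem_normalizer_iff.1 hwn k).1 hk) (inv_mem (mem_subgroupOf.1 hk)))
  have hmap : ((J.subgroupOf (C u)) ⊓ centralizer ({w'} : Set (C u))).map (C u).subtype = J ⊓ C w := by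
    ext x
    constructor
    · rintro ⟨y, hy, rfl⟩
      exact ⟨hy.1, mem_C.2 (congrArg Subtype.val (mem_centralizer_singleton_iff.1 hy.2))⟩
    · rintro ⟨hx, hx'⟩
      exact ⟨⟨x, h.le hx⟩, ⟨hx, mem_centralizer_singleton_iff.2 (Subtype.ext (mem_C.1 hx'))⟩, rfl⟩
  have key' := Subgroup.map_mono (f := (C u).subtype) key
  rw [map_subgroupOf_eq_of_le h.le, Subgroup.map_sup, ← pLayerOf_map _ (C u).subtype_injective, hmap,
    pPrimeCore_map_subtype_eq h.comp.1, map_inf _ _ _ (C u).subtype_injective,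
    map_subgroupOf_eq_of_le h.le] at key'
  refine ⟨?_, pLayerOf_mono (inf_le_inf_right _ h.le) ?_⟩
  · set E := pLayerOf 2 (J ⊓ C w)
    have hEn : E ≤ normalizer ((O u ⊓ J : Subgroup G) : Set G) := by
      intro g hg
      have hgJ : g ∈ J := ((pLayerOf_le _) hg).1
      refine Cfsg.Lib.ZStarApps.mem_normalizer_of_maps fun a ha => Subgroup.mem_inf.2 ⟨?_, ?_⟩
      · exact (mem_normalizer_iff.1 (C_le_normalizer_O u (h.le hgJ)) a).1 ha.1
      · exact mul_mem (mul_mem hgJ ha.2) (inv_mem hgJ)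
    obtain ⟨e, he, d, hd, hed⟩ :=
      (Cfsg.Lib.Coprime.mem_sup_of_le_normalizer' hEn).mp (show u ∈ (O u ⊓ J) ⊔ E by
        rw [sup_comm]; exact key' h.mem)
    obtain ⟨n, hn⟩ := odd_orderOf_of_mem (O_odd u) hd.1
    have he' : e = u * d⁻¹ := eq_mul_inv_of_mul_eq hed
    have hcd : Commute u d⁻¹ := (mem_C.1 (O_le u hd.1)).symm.inv_right
    have : e ^ (2 * n + 1) = u := by
      rw [he', hcd.mul_pow, inv_pow, ← hn, pow_orderOf_eq_one, inv_one, mul_one, hn, pow_succ,
        pow_mul, pow_two, h.mul_self, one_pow, one_mul]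
    rw [← this]
    exact pow_mem he _
  · have h1 := h.comp.1.comap (inclusion (inf_le_left : C u ⊓ C w ≤ C u))
    have h2 : (J ⊓ C w).subgroupOf (C u ⊓ C w) =
        (J.subgroupOf (C u)).comap (inclusion (inf_le_left : C u ⊓ C w ≤ C u)) := by
      ext x
      exact ⟨fun hx => hx.1, fun hx => ⟨hx, x.2.2⟩⟩
    rw [h2]
    exact h1

theorem noEvenPerfect_subgroupOf {H M : Subgroup G} (h : NoEvenPerfect H) :
    NoEvenPerfect (H.subgroupOf M) := by
  intro A hA hp
  rw [Nat.card_congr (Subgroup.equivMapOfInjective A _ M.subtype_injective).toEquiv]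
  refine h _ ?_ (by rw [← Subgroup.map_commutator, hp])
  rintro _ ⟨x, hx, rfl⟩
  exact hA hx

/-- the hypothesis of `TC.trivial_action` from the exact fixed points -/
theorem TC.fixed_of_invol (h : TC u J) {w : C u} (hw : (w : G) * w = 1)
    (hwJ : (w : G) ∈ normalizer (J : Set G)) (hno : NoEvenPerfect (J ⊓ C (w : G))) :
    NoEvenPerfect ((J.subgroupOf (C u)).map (q u) ⊓ centralizer {q u w}) := by
  refine noEvenPerfect_mono (noEvenPerfect_map (noEvenPerfect_subgroupOf (M := C u) hno) (q u)) ?_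
  rintro _ ⟨⟨a, ha, rfl⟩, hc⟩
  have he : ⁅(w : G), (a : G)⁆ ∈ O u :=
    commute_q_iff.1 (show Commute (q u w) (q u a) from (mem_centralizer_singleton_iff.1 hc).symm)
  obtain ⟨a', ha', e, hc'⟩ := h.fix_lift hw (mem_C.1 w.2) hwJ ha he
  exact ⟨⟨a', h.le ha'⟩, ⟨ha', mem_C.2 hc'⟩, (q_eq_iff.2 e).symm⟩

/-- the hypothesis of `TC.trivial_action` for an element acting as an element of order four -/
theorem TC.fixed_of_four (h : TC u J) {j : G} (hj : j ∈ J) (hj2 : j * j = u) {t : C u}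
    (ht : ∀ a (ha : a ∈ J), Commute (q u ⟨a, h.le ha⟩) (q u t) →
      Commute (q u ⟨a, h.le ha⟩) (q u ⟨j, h.le hj⟩)) :
    NoEvenPerfect ((J.subgroupOf (C u)).map (q u) ⊓ centralizer {q u t}) := by
  haveI : Fact (Nat.Prime 2) := ⟨Nat.prime_two⟩
  set K2 := J.subgroupOf (C u) ⊓ (centralizer {q u ⟨j, h.le hj⟩}).comap (q u)
  have hle : (J.subgroupOf (C u)).map (q u) ⊓ centralizer {q u t} ≤ K2.map (q u) := by
    rintro _ ⟨⟨⟨a, haC⟩, ha, rfl⟩, hc⟩
    exact ⟨⟨a, haC⟩, ⟨ha, mem_centralizer_singleton_iff.2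
      (ht a ha (mem_centralizer_singleton_iff.1 hc)).eq⟩, rfl⟩
  refine noEvenPerfect_mono (noEvenPerfect_map ?_ (q u)) hle
  intro A hA hp
  have hj4 : IsPGroup 2 (zpowers (⟨j, h.le hj⟩ : C u)) := isPGroup_zpowers_of_sq (k := 2) (Subtype.ext (by
    show j ^ 4 = 1
    rw [show j ^ 4 = (j * j) * (j * j) by simp [pow_succ, mul_assoc], hj2, h.mul_self]))
  obtain ⟨P, hP, hjP⟩ := exists_isSyl hj4 (zpowers_le.2
    (show (⟨j, h.le hj⟩ : C u) ∈ K2 from ⟨hj, mem_centralizer_singleton_iff.2 rfl⟩))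
  have hjP' : j ∈ P.map (C u).subtype := ⟨_, hjP (mem_zpowers _), rfl⟩
  have hPJ : P.map (C u).subtype ≤ J := by
    rintro _ ⟨x, hx, rfl⟩
    exact (hP.1 hx).1
  have hcyc : IsCyclic (P.map (C u).subtype) := by
    by_contra hnc
    obtain ⟨B, qs⟩ := TwoCompPair.exists_qs (hP.2.1.map _)
      (by have := mul_mem hjP' hjP'; rwa [hj2] at this) h.two (fun t ht => h.uniq t (hPJ ht)) hnc
    rcases qs.central hjP' (fun t ht => by
      obtain ⟨x, hx, rfl⟩ := ht
      refine commute_of_mem (u := u) (hP.2.1.map (C u).subtype) hjP' ⟨x, hx, rfl⟩ ?_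
      exact (commute_q_iff (a := ⟨j, h.le hj⟩) (b := x)).1
        (show Commute _ (q u x) from (mem_centralizer_singleton_iff.1 (hP.1 hx).2).symm)) with e | e
    · rw [e, one_mul] at hj2; exact h.ne_one hj2.symm
    · rw [e, h.mul_self] at hj2; exact h.ne_one hj2.symm
  obtain ⟨S, hS⟩ := hP.exists_sylow
  have hScyc : IsCyclic (S : Subgroup K2) := by
    rw [hS]
    haveI := hcyc
    exact isCyclic_of_surjective
      ((P.equivMapOfInjective _ (C u).subtype_injective).symm.trans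
        (subgroupOfEquivOfLe hP.1).symm).toMonoidHom (MulEquiv.surjective _)
  haveI := Cfsg.Lib.CyclicInter.solvable_of_cyclic S hScyc
  have hsolA : Group.IsSolvable A :=
    Group.isSolvable_of_isSolvable_injective (f := inclusion hA) (inclusion_injective hA)
  have hAperf : commutator A = ⊤ := by
    apply Subgroup.map_injective A.subtype_injective
    rw [_root_.commutator_def, Subgroup.map_commutator, ← MonoidHom.range_eq_map, range_subtype, hp]
  have : A = ⊥ := (Subgroup.eq_bot_iff_forall A).2 fun x hx =>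
    congrArg Subtype.val (perfect_solvable_trivial hAperf hsolA ⟨x, hx⟩)
  rw [this, card_bot]; exact odd_one

/-- a perfect subgroup of the layer centralizing a suitable element acts trivially -/
theorem TC.trivial_action (h : TC u J) {R : Subgroup G} (hR : ⁅R, R⁆ = R) (hRL : R ≤ L u) {t : C u}
    (htJ : (t : G) ∈ normalizer (J : Set G)) (hRt : ∀ r ∈ R, Commute r (t : G))
    (hno : NoEvenPerfect ((J.subgroupOf (C u)).map (q u) ⊓ centralizer {q u t}))
    {r : G} (hr : r ∈ R) (hr2 : IsPGroup 2 (zpowers r)) : ∀ k ∈ J, ⁅r, k⁆ ∈ O u := by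
  haveI : Fact (Nat.Prime 2) := ⟨Nat.prime_two⟩
  set J' := (J.subgroupOf (C u)).map (q u)
  have hJ' : IsComponent J' := pcomp_image h.comp
  have hlay : layer (C u ⧸ pPrimeCore 2 (C u)) ≤ J' ⊔ centralizer (J' : Set (C u ⧸ pPrimeCore 2 (C u))) :=
    sSup_le fun K hK => by
      by_cases e : K = J'
      · rw [e]; exact le_sup_left
      · exact le_trans (commutator_eq_bot_iff_le_centralizer.1 (comp_commute hK hJ' e)) le_sup_right
  have hRC : R ≤ C u := hRL.trans (L_le u)
  have hR' : ⁅(R.subgroupOf (C u)).map (q u), (R.subgroupOf (C u)).map (q u)⁆ =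
      (R.subgroupOf (C u)).map (q u) := by
    rw [← Subgroup.map_commutator]
    congr 1
    apply Subgroup.map_injective (C u).subtype_injective
    rw [Subgroup.map_commutator, map_subgroupOf_eq_of_le hRC, hR]
  have hle : (R.subgroupOf (C u)).map (q u) ≤ J' ⊔ centralizer (J' : Set _) := by
    refine le_trans ?_ hlay
    rintro _ ⟨x, hx, rfl⟩
    obtain ⟨y, hy, hyx⟩ := hRL hx
    rw [← pLayer_map_q]
    exact ⟨y, hy, congrArg _ (Subtype.ext hyx)⟩
  have htJ' : q u t ∈ normalizer (J' : Set _) := by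
    refine Cfsg.Lib.ZStarApps.mem_normalizer_of_maps ?_
    rintro _ ⟨a, ha, rfl⟩
    refine ⟨t * a * t⁻¹, ?_, by simp⟩
    exact (mem_normalizer_iff.1 htJ a).1 ha
  have key := mem_right_of_perfect hR' hle htJ' (by
    rintro _ ⟨x, hx, rfl⟩
    rw [← map_mul, ← map_mul]
    exact congrArg _ (Subtype.ext (hRt x hx).eq)) hno (r := q u ⟨r, hRC hr⟩) ⟨_, hr, rfl⟩
    (isPGroup_zpowers_map (by
      obtain ⟨k, hk⟩ := isPGroup_zpowers_iff.1 hr2
      exact isPGroup_zpowers_of_sq (k := k) (Subtype.ext (by simpa using hk))) _)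
  intro k hk
  exact (commute_q_iff (a := ⟨r, hRC hr⟩) (b := ⟨k, h.le hk⟩)).1
    ((key (q u ⟨k, h.le hk⟩) ⟨_, hk, rfl⟩).symm)

/-- the involution of a perfect subnormal subgroup of `C(a) ∩ C(b)` -/
theorem mem_LL_of_perfect {a b : G} {H : Subgroup G} (hH : H ≤ C a ⊓ C b)
    (hsn : (H.subgroupOf (C a ⊓ C b)).IsSubnormal) {R : Subgroup G} (hR : R ≤ H)
    (hperf : ⁅R, R⁆ = R) {w : G} (hwR : w ∈ R) (hw : orderOf w = 2)
    (huniq : ∀ t ∈ H, orderOf t = 2 → t = w) : w ∈ LL a b := by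
  set M := C a ⊓ C b
  set R' := (pres H).subgroupOf M
  have hle : pres H ≤ M := (pres_le H).trans hH
  have hsn' : R'.IsSubnormal := by
    refine isSubnormal_of_normal_in hsn (fun x hx => pres_le H hx) fun g hg => ?_
    rw [mem_normalizer_iff]
    exact fun x => mem_normalizer_iff.1 (le_normalizer_pres H (le_normalizer hg)) x
  have hp : ⁅R', R'⁆ = R' := by
    apply Subgroup.map_injective M.subtype_injective
    rw [Subgroup.map_commutator, map_subgroupOf_eq_of_le hle, pres_perfect]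
  have hwP : w ∈ pres H := le_pres hR hperf hwR
  have := invol_mem_pLayer_of_perfect hsn' hp (w := ⟨w, hle hwP⟩) hwP
    ((Subgroup.orderOf_coe _).symm.trans hw) fun t ht hto =>
      Subtype.ext (huniq t (pres_le H ht) ((Subgroup.orderOf_coe t).trans hto))
  exact ⟨_, this, rfl⟩

end Cfsg.Lib.TwoCompPair
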