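import Cfsg.Agent.Components.TwoCompPair.Quaternion
import Cfsg.Agent.Transfer.ThompsonTransfer

/-!
Fusion of elements of order four in perfect groups with one involution.
-/

set_option linter.style.haveILetI false
set_option linter.unusedSectionVars false

namespace Cfsg.Lib.TwoCompPair

open Subgroup
open scoped commutatorElement

universe u

variable {G : Type u} [Group G] [Finite G]

theorem perfect_index_two {H : Type*} [Group H] (hperf : commutator H = ⊤) (M : Subgroup H) [M.Normal]
    (hM : M.index = 2) : False := by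
  haveI : Fact (Nat.Prime 2) := ⟨Nat.prime_two⟩
  have hc : Nat.card (H ⧸ M) = 2 := hM
  haveI : IsCyclic (H ⧸ M) := isCyclic_of_prime_card hc
  letI : CommGroup (H ⧸ M) := IsCyclic.commGroup
  have h1 : M = ⊤ := eq_top_iff.2 (hperf ▸ fun x hx => by
    have := Abelianization.commutator_subset_ker (QuotientGroup.mk' M) hx
    rwa [QuotientGroup.ker_mk'] at this)
  rw [h1, index_top] at hM
  exact absurd hM (by decide)

theorem perfect_solvable_trivial {H : Type*} [Group H] (hperf : commutator H = ⊤)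
    (hs : Group.IsSolvable H) (x : H) : x = 1 := by
  by_contra hx
  haveI : Nontrivial H := ⟨⟨x, 1, hx⟩⟩
  exact (IsSolvable.commutator_lt_top_of_nontrivial (G := H)).ne hperf

theorem not_isCyclic_sylow (hperf : commutator G = ⊤) (P : Sylow 2 G) (hne : ∃ x : G, x ≠ 1) :
    ¬ IsCyclic (P : Subgroup G) := fun h =>
  hne.elim fun x hx => hx (perfect_solvable_trivial hperf
    (Cfsg.Lib.CyclicInter.solvable_of_cyclic P h) x)

section Fusion

variable (hperf : commutator G = ⊤) {s : G} (hs : orderOf s = 2)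
  (huniq : ∀ t : G, orderOf t = 2 → t = s)

include hs huniq in
theorem s_central (k : G) : Commute k s := by
  have h : k * s * k⁻¹ = s := huniq _ (by
    rw [show k * s * k⁻¹ = MulAut.conj k s from rfl, MulEquiv.orderOf_eq]; exact hs)
  exact mul_inv_eq_iff_eq_mul.1 h

include hperf hs huniq in
theorem exists_qs_sylow (P : Sylow 2 G) : ∃ A, QS (P : Subgroup G) A s := by
  haveI : Fact (Nat.Prime 2) := ⟨Nat.prime_two⟩
  have hdvd : 2 ∣ Nat.card G := hs ▸ orderOf_dvd_natCard s
  have h1 : 2 ∣ Nat.card (P : Subgroup G) := P.dvd_card_of_dvd_card hdvd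
  obtain ⟨⟨c, hc⟩, hco⟩ := exists_prime_orderOf_dvd_card' 2 h1
  have hco' : orderOf c = 2 := (Subgroup.orderOf_coe (⟨c, hc⟩ : (P : Subgroup G))).trans hco
  exact exists_qs P.2 (huniq c hco' ▸ hc) hs (fun t _ ht => huniq t ht)
    (not_isCyclic_sylow hperf P ⟨s, ne_one_of_two hs⟩)

include hperf hs huniq in
/-- the fusion: an element `n` permuting the three subgroups of order four of `⟨y, g⟩` cyclically -/
theorem exists_three_cycle {y g : G} (hy : y * y = s) (hg : g * g = s) (hyg : y⁻¹ * g * y = g⁻¹) :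
    ∃ n : G, (n⁻¹ * y * n = g ∨ n⁻¹ * y * n = g * s) ∧
      (n⁻¹ * g * n = y * g ∨ n⁻¹ * g * n = y * g * s) := by
  classical
  haveI : Fact (Nat.Prime 2) := ⟨Nat.prime_two⟩
  have hcen := s_central hs huniq
  have hss : s * s = 1 := mul_self_of_two hs
  haveI hZn : (zpowers s).Normal := ⟨fun x hx k => by
    obtain ⟨i, rfl⟩ := mem_zpowers_iff.1 hx
    rw [((hcen k).zpow_right i).eq, mul_inv_cancel_right]
    exact zpow_mem (mem_zpowers s) i⟩
  set π := QuotientGroup.mk' (zpowers s) with hπ
  have hzs : ∀ x ∈ zpowers s, x = 1 ∨ x = s := by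
    intro x hx
    obtain ⟨i, rfl⟩ := mem_zpowers_iff.1 hx
    rcases Int.even_or_odd i with ⟨j, rfl⟩ | ⟨j, rfl⟩
    · left; rw [← two_mul, zpow_mul, zpow_two, hss, one_zpow]
    · right; rw [zpow_add, zpow_mul, zpow_two, hss, one_zpow, zpow_one, one_mul]
  have hpi : ∀ a b : G, π a = π b → a = b ∨ a = b * s := by
    intro a b h
    rcases hzs _ (QuotientGroup.eq.1 h.symm) with e | e
    · exact Or.inl (inv_mul_eq_one.1 e).symm
    · exact Or.inr (inv_mul_eq_iff_eq_mul.1 e)
  have hker : π.ker = zpowers s := QuotientGroup.ker_mk' _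
  have hπs : π s = 1 := (QuotientGroup.eq_one_iff s).2 (mem_zpowers s)
  suffices h : ∃ n : G, π (n⁻¹ * y * n) = π g ∧ π (n⁻¹ * g * n) = π (y * g) by
    obtain ⟨n, h1, h2⟩ := h
    exact ⟨n, hpi _ _ h1, hpi _ _ h2⟩
  -- elements of order four are conjugate modulo the centre
  obtain ⟨P⟩ := (inferInstance : Nonempty (Sylow 2 G))
  obtain ⟨A, q⟩ := exists_qs_sylow hperf hs huniq P
  obtain ⟨t, ht, ht2⟩ := q.exists_t
  have hconj : ∀ x : G, x * x = s → ∃ k : G, π (k⁻¹ * x * k) = π t := by
    intro x hx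
    have hsA : zpowers s ≤ A := zpowers_le.2 q.z_mem
    have hxn : π x ≠ 1 := fun h => by
      rcases hzs x ((QuotientGroup.eq_one_iff x).1 h) with e | e
      · rw [e, one_mul] at hx; exact ne_one_of_two hs hx.symm
      · rw [e, hss] at hx; exact ne_one_of_two hs hx.symm
    have hu : orderOf (π x) = 2 := orderOf_eq_two (by rw [← map_mul, hx, hπs]) hxn
    have hidx : (A.map π).index = 2 * (P : Subgroup G).index := by
      rw [index_map, hker, sup_eq_left.2 hsA,
        MonoidHom.range_eq_top.2 (QuotientGroup.mk'_surjective _), index_top, mul_one,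
        ← relIndex_mul_index q.le, q.relIndex]
    have hodd : Odd (P : Subgroup G).index := Nat.odd_iff.2 (Nat.two_dvd_ne_zero.1 P.not_dvd_index)
    by_contra hcon
    push Not at hcon
    obtain ⟨M, hMn, hM2, -⟩ := Cfsg.Lib.Transfer.exists_index_two_not_mem (A.map π) hodd hidx hu
      (fun k' hk' => by
        obtain ⟨k, rfl⟩ := QuotientGroup.mk'_surjective _ k'
        rw [← map_inv, ← map_mul, ← map_mul] at hk'
        obtain ⟨a, ha, hae⟩ := hk'
        apply hcon k
        rw [← hae]
        have ha2 : a * a = s := by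
          have hkk : (k⁻¹ * x * k) * (k⁻¹ * x * k) = s := by
            rw [show (k⁻¹ * x * k) * (k⁻¹ * x * k) = k⁻¹ * (x * x) * k by group, hx, mul_assoc,
              ← (hcen k).eq, inv_mul_cancel_left]
          rcases hpi _ _ hae with e | e
          · rw [e, hkk]
          · rw [e, mul_assoc, ← mul_assoc s, ← (hcen _).eq, mul_assoc _ s s, hss, mul_one, hkk]
        have hc := q.commA ha (inv_mem ht)
        have h2 : a * t⁻¹ * (a * t⁻¹) = 1 := by
          calc a * t⁻¹ * (a * t⁻¹) = a * (t⁻¹ * a) * t⁻¹ := by group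
            _ = (a * a) * (t⁻¹ * t⁻¹) := by rw [← hc.eq]; group
            _ = 1 := by rw [ha2, ← mul_inv_rev, ht2, mul_inv_cancel]
        rcases q.uniq _ (q.le (mul_mem ha (inv_mem ht))) h2 with e | e
        · rw [mul_inv_eq_one.1 e]
        · rw [mul_inv_eq_iff_eq_mul.1 e, map_mul, hπs, one_mul])
    haveI := hMn
    refine perfect_index_two hperf (M.comap π) ?_
    rw [index_comap_of_surjective M (QuotientGroup.mk'_surjective _), hM2]
  -- the four group
  have four : ∀ y g : G, y * y = s → g * g = s → y⁻¹ * g * y = g⁻¹ → ∃ U : Subgroup G,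
      Nat.card U = 8 ∧ IsPGroup 2 U ∧ y ∈ U ∧ g ∈ U ∧ π y ≠ π g ∧
      (∀ u ∈ U, π u = 1 ∨ π u = π y ∨ π u = π g ∨ π u = π (y * g)) ∧
      (∀ u ∈ U, Commute (π u) (π y)) := by
    intro y g hy hg hyg
    have ha : π y * π y = 1 := by rw [← map_mul, hy, hπs]
    have hb : π g * π g = 1 := by rw [← map_mul, hg, hπs]
    have hab : Commute (π y) (π g) := by
      have := congrArg π hyg
      rw [map_mul, map_mul, map_inv, map_inv, invol_inv ha, invol_inv hb] at this
      show π y * π g = π g * π y
      conv_rhs => rw [← this]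
      rw [mul_assoc, ha, mul_one]
    set a := π y
    set b := π g
    let V : Subgroup (G ⧸ zpowers s) :=
      { carrier := {v | v = 1 ∨ v = a ∨ v = b ∨ v = a * b}
        one_mem' := Or.inl rfl
        mul_mem' := fun {v w} hv hw => by
          have hba : b * a = a * b := hab.eq.symm
          have k1 : a * (a * b) = b := by rw [← mul_assoc, ha, one_mul]
          have k2 : b * (a * b) = a := by rw [← mul_assoc, hba, mul_assoc, hb, mul_one]
          have k3 : a * b * a = b := by rw [mul_assoc, hba, k1]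
          have k4 : a * b * b = a := by rw [mul_assoc, hb, mul_one]
          have k5 : a * b * (a * b) = 1 := by rw [mul_assoc, k2, ha]
          simp only [Set.mem_setOf_eq] at *
          rcases hv with rfl | rfl | rfl | rfl <;> rcases hw with rfl | rfl | rfl | rfl <;>
            simp [ha, hb, hba, k1, k2, k3, k4, k5]
        inv_mem' := fun {v} hv => by
          simp only [Set.mem_setOf_eq] at *
          rcases hv with rfl | rfl | rfl | rfl <;>
            simp [invol_inv ha, invol_inv hb, hab.eq] }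
    have hVc : Nat.card V ≤ 4 := by
      have h : (V : Set (G ⧸ zpowers s)) ⊆ ↑({1, a, b, a * b} : Finset (G ⧸ zpowers s)) := by
        intro v hv
        simp only [Finset.coe_insert, Finset.coe_singleton, Set.mem_insert_iff, Set.mem_singleton_iff]
        exact hv
      refine (Set.ncard_le_ncard h (Finset.finite_toSet _)).trans ?_
      rw [Set.ncard_coe_finset]
      exact Finset.card_le_four
    have hVcomm : ∀ v ∈ V, v * v = 1 ∧ Commute v a := by
      rintro v (rfl | rfl | rfl | rfl)
      · exact ⟨one_mul 1, Commute.one_left a⟩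
      · exact ⟨ha, Commute.refl a⟩
      · exact ⟨hb, hab.symm⟩
      · exact ⟨by rw [hab.symm.mul_mul_mul_comm, ha, hb, one_mul], (Commute.refl a).mul_left hab.symm⟩
    set U := V.comap π with hU
    have hUp : IsPGroup 2 U := by
      rintro ⟨u, hu⟩
      refine ⟨2, Subtype.ext ?_⟩
      show u ^ 4 = 1
      rcases hzs _ ((QuotientGroup.eq_one_iff _).1 (show π (u * u) = 1 by
        rw [map_mul]; exact (hVcomm _ hu).1)) with e | e
      · rw [show u ^ 4 = (u * u) * (u * u) by simp [pow_succ, mul_assoc], e, one_mul]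
      · rw [show u ^ 4 = (u * u) * (u * u) by simp [pow_succ, mul_assoc], e, hss]
    have hne : a ≠ b := by
      intro h
      have hc : Commute y g := by
        rcases hpi g y h.symm with e | e
        · rw [e]
        · rw [e]; exact (Commute.refl y).mul_right (hcen y)
      rw [mul_assoc, ← hc.eq, inv_mul_cancel_left, eq_inv_iff_mul_eq_one, hg] at hyg
      exact ne_one_of_two hs hyg
    refine ⟨U, ?_, hUp, Or.inr (Or.inl rfl), Or.inr (Or.inr (Or.inl rfl)), hne,
      fun u hu => by rw [map_mul]; exact hu, fun u hu => (hVcomm _ hu).2⟩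
    have hc : Nat.card U ≤ 8 := by
      rw [hU, Cfsg.Lib.Components.card_comap_of_surjective (QuotientGroup.mk'_surjective _), hker,
        Nat.card_zpowers, hs]
      omega
    have h4 : orderOf y = 4 := by
      refine orderOf_eq_prime_pow (p := 2) (n := 1) (fun h => ?_) ?_
      · rw [pow_one, pow_two, hy] at h; exact ne_one_of_two hs h
      · rw [show (2 : ℕ) ^ (1 + 1) = 2 * 2 from rfl, pow_mul, pow_two, pow_two, hy, hss]
    have hlt : zpowers y < U := lt_of_le_of_ne (zpowers_le.2 (Or.inr (Or.inl rfl)))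
      fun h => by
        have hgU : g ∈ U := Or.inr (Or.inr (Or.inl rfl))
        rw [← h] at hgU
        obtain ⟨i, hi⟩ := mem_zpowers_iff.1 hgU
        have hc : Commute y g := hi ▸ (Commute.refl y).zpow_right i
        rw [mul_assoc, ← hc.eq, inv_mul_cancel_left, eq_inv_iff_mul_eq_one, hg] at hyg
        exact ne_one_of_two hs hyg
    have h5 : 4 < Nat.card U := by
      rw [← h4, ← Nat.card_zpowers y]
      exact lt_of_le_of_ne (card_le_of_le hlt.le)
        fun h => hlt.ne (Subgroup.eq_of_le_of_card_ge hlt.le h.ge)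
    obtain ⟨i, hi⟩ := IsPGroup.iff_card.1 hUp
    rw [hi] at hc h5 ⊢
    have : i = 3 := by
      rcases lt_trichotomy i 3 with h | h | h
      · have := Nat.pow_le_pow_right two_pos (show i ≤ 2 by omega); omega
      · exact h
      · have := Nat.pow_le_pow_right two_pos (show 4 ≤ i by omega); omega
    rw [this]; norm_num
  -- centralizers in the quotient
  let N : G → Subgroup G := fun x => (centralizer ({π x} : Set (G ⧸ zpowers s))).comap π
  have hN : ∀ x k : G, k ∈ N x ↔ π (k⁻¹ * x * k) = π x := fun x k => by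
    show π k ∈ centralizer {π x} ↔ _
    rw [mem_centralizer_singleton_iff, map_mul, map_mul, map_inv, mul_assoc, inv_mul_eq_iff_eq_mul]
    exact eq_comm
  have hPN : ∀ p ∈ (P : Subgroup G), p ∈ N t := fun p hp => by
    show π p ∈ centralizer {π t}
    rw [mem_centralizer_singleton_iff]
    by_cases hpA : p ∈ A
    · rw [← map_mul, ← map_mul, (q.commA hpA ht).eq]
    · have h1 := (q.out p hp hpA).2 t ht
      rw [mul_inv_eq_iff_eq_mul] at h1
      rw [← map_mul, ← map_mul, h1]
      have : t⁻¹ = t * s := inv_eq_of_mul_eq_one_right (by rw [← mul_assoc, ht2, hss])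
      rw [this, map_mul, map_mul, hπs, mul_one, map_mul]
  have hconjN : ∀ x : G, x * x = s →
      ∃ k : G, (P : Subgroup G).map (MulAut.conj k).toMonoidHom ≤ N x := by
    intro x hx
    obtain ⟨k, hk⟩ := hconj x hx
    refine ⟨k, ?_⟩
    rintro _ ⟨p, hp, rfl⟩
    have h1 : Commute (π p) (π t) := mem_centralizer_singleton_iff.1 (hPN p hp)
    show π (k * p * k⁻¹) ∈ centralizer {π x}
    rw [mem_centralizer_singleton_iff]
    have h2 : π x = π k * π t * (π k)⁻¹ := by rw [← hk, map_mul, map_mul, map_inv]; group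
    rw [h2, map_mul, map_mul, map_inv]
    exact (h1.map (MulAut.conj (π k)).toMonoidHom).eq
  by_cases h16 : 8 < Nat.card (P : Subgroup G)
  · have fix : ∀ y g : G, y * y = s → g * g = s → y⁻¹ * g * y = g⁻¹ →
        ∃ k : G, π (k⁻¹ * y * k) = π y ∧ π (k⁻¹ * g * k) = π (y * g) := by
      intro y g hy hg hyg
      obtain ⟨U, hU8, hUp, hyU, hgU, hne, hU, hUy⟩ := four y g hy hg hyg
      obtain ⟨k₀, hk₀⟩ := hconjN y hy
      have hUN : U ≤ N y := fun u hu => mem_centralizer_singleton_iff.2 (hUy u hu).eq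
      obtain ⟨Q, hQ⟩ := (hUp.comap_subtype (K := N y)).exists_le_sylow
      set Q' := (Q : Subgroup (N y)).map (N y).subtype with hQ'
      have hUQ : U ≤ Q' := fun u hu => ⟨⟨u, hUN hu⟩, hQ hu, rfl⟩
      have hQp : IsPGroup 2 Q' := Q.2.map _
      have hcard : Nat.card (P : Subgroup G) ≤ Nat.card Q' := by
        rw [← Nat.card_congr (Subgroup.equivMapOfInjective _ _ (N y).subtype_injective).toEquiv,
          Nat.card_congr (Subgroup.equivMapOfInjective (P : Subgroup G) (MulAut.conj k₀).toMonoidHom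
            (MulAut.conj k₀).injective).toEquiv]
        obtain ⟨Q₂, hQ₂⟩ := ((P.2.map (MulAut.conj k₀).toMonoidHom).comap_subtype
          (K := N y)).exists_le_sylow
        refine le_trans (le_of_eq ?_) ((card_le_of_le hQ₂).trans
          (Q₂.card_eq_multiplicity.trans Q.card_eq_multiplicity.symm).le)
        exact (Nat.card_congr (subgroupOfEquivOfLe hk₀).toEquiv).symm
      have hlt : U.subgroupOf Q' < ⊤ := lt_top_iff_ne_top.2 fun h => by
        have := card_le_of_le (subgroupOf_eq_top.1 h)
        omega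
      haveI : Group.IsNilpotent Q' := hQp.isNilpotent
      obtain ⟨⟨k, hkQ⟩, hk, hkU⟩ := SetLike.exists_of_lt
        ((Group.normalizerCondition_of_isNilpotent (G := Q')) _ hlt)
      have hkU' : k ∉ U := hkU
      have hky : π (k⁻¹ * y * k) = π y := by
        obtain ⟨k', hk', hkk⟩ := hkQ
        rw [← hN]
        rw [← hkk]
        exact k'.2
      have hgk : k⁻¹ * g * k ∈ U := by
        have h := (mem_normalizer_iff.1 (inv_mem hk) ⟨g, hUQ hgU⟩).1 hgU
        simpa [mem_subgroupOf] using h
      refine ⟨k, hky, ?_⟩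
      rcases hU _ hgk with h | h | h | h
      · exfalso
        rw [map_mul, map_mul, map_inv, mul_eq_one_iff_eq_inv, mul_eq_left] at h
        rcases hzs g ((QuotientGroup.eq_one_iff g).1 h) with e | e
        · rw [e, one_mul] at hg; exact ne_one_of_two hs hg.symm
        · rw [e, hss] at hg; exact ne_one_of_two hs hg.symm
      · exfalso
        rw [← hky, map_mul, map_mul, map_mul, map_mul, mul_left_inj, mul_right_inj] at h
        exact hne h.symm
      · exfalso
        have hnc : ¬ IsCyclic Q' := fun hc => by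
          haveI := hc
          letI : CommGroup Q' := IsCyclic.commGroup
          have h3 := congrArg Subtype.val (mul_comm (⟨y, hUQ hyU⟩ : Q') ⟨g, hUQ hgU⟩)
          simp only [Subgroup.coe_mul] at h3
          have h4 := hyg
          rw [mul_assoc, ← h3, inv_mul_cancel_left, eq_inv_iff_mul_eq_one, hg] at h4
          exact ne_one_of_two hs h4
        obtain ⟨B, qQ⟩ := exists_qs hQp (hUQ (hy ▸ mul_mem hyU hyU)) hs (fun t _ ht => huniq t ht) hnc
        have adj : ∀ u ∈ U, Commute (k * u) y → Commute (k * u) g → False := by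
          intro u hu c1 c2
          rcases qQ.pair_centralizer (hUQ hyU) (hUQ hgU) hg hyg (mul_mem hkQ (hUQ hu)) c1 c2 with e | e
          · exact hkU' ((eq_inv_of_mul_eq_one_left e).symm ▸ inv_mem hu)
          · exact hkU' ((eq_mul_inv_of_mul_eq e).symm ▸
              mul_mem (hy ▸ mul_mem hyU hyU) (inv_mem hu))
        have com : ∀ v x : G, v⁻¹ * x * v = x → Commute v x := fun v x h => by
          rw [mul_assoc, inv_mul_eq_iff_eq_mul] at h
          exact h.symm
        have cy : ∀ u : G, (k * u)⁻¹ * y * (k * u) = u⁻¹ * (k⁻¹ * y * k) * u := fun u => by group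
        have cg : ∀ u : G, (k * u)⁻¹ * g * (k * u) = u⁻¹ * (k⁻¹ * g * k) * u := fun u => by group
        have hys : y⁻¹ = y * s := inv_eq_of_mul_eq_one_right (by rw [← mul_assoc, hy, hss])
        have hgs : g⁻¹ = g * s := inv_eq_of_mul_eq_one_right (by rw [← mul_assoc, hg, hss])
        have hgy : g⁻¹ * y * g = y⁻¹ := by
          have : g * y = y * g⁻¹ := by rw [← hyg]; group
          calc g⁻¹ * y * g = g⁻¹ * (y * g⁻¹) * (g * g) := by group
            _ = g⁻¹ * (g * y) * s := by rw [← this, hg]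
            _ = y⁻¹ := by rw [inv_mul_cancel_left, hys]
        have cs : ∀ u x : G, u⁻¹ * (x * s) * u = (u⁻¹ * x * u) * s := fun u x => by
          calc u⁻¹ * (x * s) * u = u⁻¹ * x * (s * u) := by group
            _ = u⁻¹ * x * (u * s) := by rw [(hcen u).eq]
            _ = _ := by group
        have hys' : y⁻¹ * s = y := by rw [hys, mul_assoc, hss, mul_one]
        have hgs' : g⁻¹ * s = g := by rw [hgs, mul_assoc, hss, mul_one]
        rcases hpi _ _ hky with e | e <;> rcases hpi _ _ h with e' | e'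
        · exact adj 1 (one_mem _) (com _ _ (by rw [cy, e]; group)) (com _ _ (by rw [cg, e']; group))
        · refine adj y hyU (com _ _ (by rw [cy, e]; group)) (com _ _ ?_)
          rw [cg, e', cs, hyg, hgs']
        · refine adj g hgU (com _ _ ?_) (com _ _ (by rw [cg, e']; group))
          rw [cy, e, cs, hgy, hys']
        · refine adj (y * g) (mul_mem hyU hgU) (com _ _ ?_) (com _ _ ?_)
          · rw [cy, e, cs, show (y * g)⁻¹ * y * (y * g) = g⁻¹ * y * g by group, hgy, hys']
          · rw [cg, e', cs, show (y * g)⁻¹ * g * (y * g) = g⁻¹ * (y⁻¹ * g * y) * g by group, hyg,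
              show g⁻¹ * g⁻¹ * g = g⁻¹ by group, hgs']
      · exact h
    obtain ⟨k₁, a₁, b₁⟩ := fix y g hy hg hyg
    have hgy : g⁻¹ * y * g = y⁻¹ := by
      have hgs : g⁻¹ = g * s := inv_eq_of_mul_eq_one_right (by rw [← mul_assoc, hg, hss])
      have hys : y⁻¹ = y * s := inv_eq_of_mul_eq_one_right (by rw [← mul_assoc, hy, hss])
      have : g * y = y * g⁻¹ := by rw [← hyg]; group
      calc g⁻¹ * y * g = g⁻¹ * (y * g⁻¹) * (g * g) := by group
        _ = g⁻¹ * (g * y) * s := by rw [← this, hg]
        _ = y⁻¹ := by rw [inv_mul_cancel_left, hys]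
    obtain ⟨k₂, b₂, a₂⟩ := fix g y hg hy hgy
    have hab : π g * π y = π y * π g := by
      obtain ⟨U, -, -, hyU, hgU, -, -, hUy⟩ := four y g hy hg hyg
      exact (hUy g hgU).eq
    set a := π y
    set b := π g
    have hb2 : b * b = 1 := by rw [← map_mul, hg, hπs]
    have e : ∀ (k : G) (x : G), π (k⁻¹ * x * k) = cj (π k) (π x) := fun k x => by
      rw [cj_apply, map_mul, map_mul, map_inv]
    rw [e] at a₁ b₁ a₂ b₂
    rw [map_mul] at b₁ a₂
    refine ⟨(k₁ * k₂) * (k₁ * k₂), ?_, ?_⟩
    · rw [e, map_mul, map_mul, cj_mul, cj_mul, cj_mul, a₁, a₂, hab, map_mul, a₁, b₁,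
        ← mul_assoc, show a * a = 1 by rw [← map_mul, hy, hπs], one_mul, b₂]
    · rw [e, map_mul, map_mul, cj_mul, cj_mul, cj_mul, b₁, map_mul, a₂, b₂, hab, mul_assoc, hb2,
        mul_one, a₁, a₂, hab, map_mul]
  · have h8 : Nat.card (P : Subgroup G) = 8 := le_antisymm (by omega) q.eight
    obtain ⟨U, hU8, hUp, hyU, hgU, hne, hU, hUy⟩ := four y g hy hg hyg
    obtain ⟨U', hU'8, -, hyU', hgU', -, -, hUg⟩ := four g y hg hy (by
      have hys : y⁻¹ = y * s := inv_eq_of_mul_eq_one_right (by rw [← mul_assoc, hy, hss])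
      have : g * y = y * g⁻¹ := by rw [← hyg]; group
      calc g⁻¹ * y * g = g⁻¹ * (y * g⁻¹) * (g * g) := by group
        _ = g⁻¹ * (g * y) * s := by rw [← this, hg]
        _ = y⁻¹ := by rw [inv_mul_cancel_left, hys])
    have hUN : U ≤ N g := by
      intro u hu
      refine mem_centralizer_singleton_iff.2 ?_
      have c1 : Commute (π g) (π y) := hUy g hgU
      rcases hU u hu with h | h | h | h <;> rw [h]
      · simp
      · exact c1.symm.eq
      · rw [map_mul]; exact ((c1.symm).mul_left (Commute.refl _)).eq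
    obtain ⟨l₁, hl₁⟩ := hconj y hy
    obtain ⟨l₂, hl₂⟩ := hconj g hg
    set l := l₁ * l₂⁻¹ with hl
    have hly : π (l⁻¹ * y * l) = π g := by
      rw [hl, show (l₁ * l₂⁻¹)⁻¹ * y * (l₁ * l₂⁻¹) = l₂ * (l₁⁻¹ * y * l₁) * l₂⁻¹ by group, map_mul,
        map_mul, hl₁, ← hl₂, ← map_mul, ← map_mul]
      congr 1; group
    have hUl : U.map (cj l) ≤ N g := by
      rintro _ ⟨u, hu, rfl⟩
      refine mem_centralizer_singleton_iff.2 ?_
      have h := (hUy u hu).map (cj (π l))
      rw [cj_apply (π l) (π y), ← map_inv, ← map_mul, ← map_mul, hly] at h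
      rw [cj_apply, map_mul, map_mul, map_inv, ← cj_apply]
      exact h.eq
    have hsyl : ∀ H : Subgroup G, H ≤ N g → IsPGroup 2 H → Nat.card H = 8 →
        ∃ S : Sylow 2 (N g), (S : Subgroup (N g)) = H.subgroupOf (N g) := by
      intro H hH hp h
      obtain ⟨S, hS⟩ := (hp.comap_subtype (K := N g)).exists_le_sylow
      refine ⟨S, (Subgroup.eq_of_le_of_card_ge hS ?_).symm⟩
      have h1 : Nat.card ((S : Subgroup (N g)).map (N g).subtype) ≤ 8 := by
        obtain ⟨S', hS'⟩ := (S.2.map (N g).subtype).exists_le_sylow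
        exact (card_le_of_le hS').trans (by rw [S'.card_eq_multiplicity, ← P.card_eq_multiplicity, h8])
      rw [← Nat.card_congr (Subgroup.equivMapOfInjective _ _ (N g).subtype_injective).toEquiv] at h1
      show Nat.card (S : Subgroup (N g)) ≤ Nat.card (H.subgroupOf (N g))
      rw [Nat.card_congr (subgroupOfEquivOfLe hH).toEquiv, h]
      exact h1
    obtain ⟨S₁, hS₁⟩ := hsyl _ hUl (hUp.map _) (by
      rw [← Nat.card_congr (Subgroup.equivMapOfInjective U _ (cj_injective l)).toEquiv, hU8])
    obtain ⟨S₂, hS₂⟩ := hsyl U hUN hUp hU8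
    obtain ⟨⟨m, hm⟩, hmS⟩ := MulAction.exists_smul_eq (N g) S₁ S₂
    set n := l * m⁻¹ with hn
    clear_value n
    have hnU : ∀ u ∈ U, n⁻¹ * u * n ∈ U := by
      intro u hu
      have h1 : (⟨l⁻¹ * u * l, hUl (mem_map_cj hu)⟩ : N g) ∈ (S₁ : Subgroup (N g)) := by
        rw [hS₁]; exact mem_map_cj hu
      have h2 : (⟨m, hm⟩ : N g) * ⟨l⁻¹ * u * l, hUl (mem_map_cj hu)⟩ * ⟨m, hm⟩⁻¹ ∈
          (S₂ : Subgroup (N g)) := by
        rw [← hmS, Sylow.coe_subgroup_smul]
        exact ⟨_, h1, rfl⟩
      rw [hS₂, mem_subgroupOf] at h2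
      rw [hn, show (l * m⁻¹)⁻¹ * u * (l * m⁻¹) = m * (l⁻¹ * u * l) * m⁻¹ by group]
      exact h2
    have hny : π (n⁻¹ * y * n) = π g := by
      rw [hn, show (l * m⁻¹)⁻¹ * y * (l * m⁻¹) = m * (l⁻¹ * y * l) * m⁻¹ by group, map_mul, map_mul,
        hly, map_inv, mul_inv_eq_iff_eq_mul]
      exact mem_centralizer_singleton_iff.1 hm
    rcases hU _ (hnU g hgU) with h | h | h | h
    · exfalso
      rw [map_mul, map_mul, map_inv, mul_eq_one_iff_eq_inv, mul_eq_left] at h
      rcases hzs g ((QuotientGroup.eq_one_iff g).1 h) with e | e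
      · rw [e, one_mul] at hg; exact ne_one_of_two hs hg.symm
      · rw [e, hss] at hg; exact ne_one_of_two hs hg.symm
    · exfalso
      obtain ⟨i, r, hr, hir⟩ := Nat.exists_eq_two_pow_mul_odd (orderOf_pos n).ne'
      obtain ⟨j, rfl⟩ := hr
      have h2 : Commute (π (n * n)) (π y) := by
        apply commute_of_cj
        rw [cj_apply, ← map_inv, ← map_mul, ← map_mul,
          show (n * n)⁻¹ * y * (n * n) = n⁻¹ * (n⁻¹ * y * n) * n by group, map_mul, map_mul, hny,
          ← map_mul, ← map_mul, h]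
      set c := n ^ (2 * j + 1) with hc
      have hcy : π (c⁻¹ * y * c) = π g := by
        rw [hc, pow_succ, show (n ^ (2 * j) * n)⁻¹ * y * (n ^ (2 * j) * n)
          = n⁻¹ * ((n ^ (2 * j))⁻¹ * y * n ^ (2 * j)) * n by group, map_mul, map_mul]
        rw [show π ((n ^ (2 * j))⁻¹ * y * n ^ (2 * j)) = π y by
          rw [map_mul, map_mul, map_inv, mul_assoc, inv_mul_eq_iff_eq_mul, pow_mul, pow_two, map_pow]
          exact ((h2.pow_left j).eq).symm]
        rw [← map_mul, ← map_mul, hny]
      have hc2 : IsPGroup 2 (zpowers c) := isPGroup_zpowers_of_sq (k := i)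
        (by rw [hc, ← pow_mul, mul_comm, ← hir, pow_orderOf_eq_one])
      have hcN : c ∈ normalizer (U : Set G) := pow_mem (inv_mem_iff.1
        (Cfsg.Lib.ZStarApps.mem_normalizer_of_maps fun u hu => by rw [inv_inv]; exact hnU u hu)) _
      have hbig := hc2.to_sup_of_normal_right' hUp (zpowers_le.2 hcN)
      obtain ⟨S', hS'⟩ := hbig.exists_le_sylow
      have hle : Nat.card (zpowers c ⊔ U : Subgroup G) ≤ 8 :=
        (card_le_of_le hS').trans (by rw [S'.card_eq_multiplicity, ← P.card_eq_multiplicity, h8])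
      have heq : U = zpowers c ⊔ U := Subgroup.eq_of_le_of_card_ge le_sup_right (by omega)
      have hcU : c ∈ U := by rw [heq]; exact mem_sup_left (mem_zpowers c)
      apply hne
      rw [← hcy, map_mul, map_mul, map_inv, mul_assoc, ← (hUy c hcU).eq, inv_mul_cancel_left]
    · exfalso
      have h' := h.trans hny.symm
      rw [map_mul, map_mul, map_mul, map_mul, mul_left_inj, mul_right_inj] at h'
      exact hne h'.symm
    · exact ⟨n, hny, h⟩

end Fusion

end Cfsg.Lib.TwoCompPair
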