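import Cfsg.Agent.Components.LocalBalance
import Cfsg.Agent.Coprime.Basic

/-!
Elementary lemmas for configurations of two components with one involution each.
-/

set_option linter.style.haveILetI false
set_option linter.unusedSectionVars false

namespace Cfsg.Lib.TwoCompPair

open Subgroup
open scoped commutatorElement

universe u

variable {G : Type u} [Group G] {G' : Type*} [Group G']

/-- conjugation `a ↦ g⁻¹ a g` -/
def cj (g : G) : G →* G := (MulAut.conj g⁻¹).toMonoidHom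

theorem cj_apply (g a : G) : cj g a = g⁻¹ * a * g := by
  show g⁻¹ * a * g⁻¹⁻¹ = _
  rw [inv_inv]

theorem cj_mul (g h a : G) : cj (g * h) a = cj h (cj g a) := by
  simp only [cj_apply]; group

theorem cj_eq_self {g a : G} (h : Commute g a) : cj g a = a := by
  rw [cj_apply, mul_assoc, ← h.eq, inv_mul_cancel_left]

theorem commute_of_cj {g a : G} (h : cj g a = a) : Commute g a := by
  rw [cj_apply] at h
  calc g * a = g * (g⁻¹ * a * g) := by rw [h]
    _ = a * g := by group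

theorem cj_injective (g : G) : Function.Injective (cj g) := (MulAut.conj g⁻¹).injective

theorem mem_map_cj {H : Subgroup G} {g a : G} (h : a ∈ H) : g⁻¹ * a * g ∈ H.map (cj g) :=
  ⟨a, h, cj_apply g a⟩

theorem map_cj_eq_iff {H : Subgroup G} {g : G} : H.map (cj g) = H ↔ g ∈ normalizer (H : Set G) := by
  rw [← inv_mem_iff (x := g), mem_normalizer_iff_map_conj_eq]
  rfl

theorem map_cj_cj (H : Subgroup G) (g h : G) : (H.map (cj g)).map (cj h) = H.map (cj (g * h)) := by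
  rw [map_map]
  congr 1
  exact MonoidHom.ext fun a => (cj_mul g h a).symm

theorem map_cj_one (H : Subgroup G) : H.map (cj (1 : G)) = H :=
  map_cj_eq_iff.2 (one_mem _)

theorem cj_mem_of_normalizer {H : Subgroup G} {g a : G} (hg : g ∈ normalizer (H : Set G)) (ha : a ∈ H) :
    g⁻¹ * a * g ∈ H := by
  rw [← map_cj_eq_iff.2 hg]; exact mem_map_cj ha

theorem invol_inv {a : G} (ha : a * a = 1) : a⁻¹ = a := inv_eq_of_mul_eq_one_right ha

theorem orderOf_eq_two {a : G} (ha : a * a = 1) (h1 : a ≠ 1) : orderOf a = 2 :=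
  orderOf_eq_prime (by rw [pow_two]; exact ha) h1

theorem mul_self_of_two {a : G} (ha : orderOf a = 2) : a * a = 1 := by
  rw [← pow_two, ← ha, pow_orderOf_eq_one]

theorem ne_one_of_two {a : G} (ha : orderOf a = 2) : a ≠ 1 := fun h => by
  rw [h, orderOf_one] at ha; exact absurd ha (by decide)

/-- two involutions with product of odd order are conjugate by a power of the product -/
theorem invol_conj {a b : G} (ha : a * a = 1) (hb : b * b = 1) (ho : Odd (orderOf (a * b))) :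
    ∃ c ∈ zpowers (a * b), c⁻¹ * a * c = b := by
  obtain ⟨k, hk⟩ := ho
  set o := a * b with ho'
  refine ⟨o ^ (k + 1), pow_mem (mem_zpowers o) _, ?_⟩
  have h1 : a * o * a⁻¹ = o⁻¹ := by
    rw [ho', mul_inv_rev, invol_inv ha, invol_inv hb]
    simp [← mul_assoc, ha]
  have h2 : a * o ^ (k + 1) * a⁻¹ = (o ^ (k + 1))⁻¹ := by rw [← conj_pow, h1, inv_pow]
  have h3 : (o ^ (k + 1))⁻¹ * a = a * o ^ (k + 1) := by rw [← h2]; group
  have h4 : o ^ (k + 1) * o ^ (k + 1) = o := by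
    rw [← pow_add, show k + 1 + (k + 1) = (2 * k + 1) + 1 by omega, pow_succ, ← hk,
      pow_orderOf_eq_one, one_mul]
  rw [h3, mul_assoc, h4, ho', ← mul_assoc, ha, one_mul]

theorem odd_orderOf_of_mem [Finite G] {N : Subgroup G} (hN : Odd (Nat.card N)) {x : G} (hx : x ∈ N) :
    Odd (orderOf x) := by
  refine Odd.of_dvd_nat hN ?_
  rw [← Nat.card_zpowers]
  exact Subgroup.card_dvd_of_le (zpowers_le.2 hx)

theorem eq_one_of_two_odd [Finite G] {N : Subgroup G} (hN : Odd (Nat.card N)) {x : G} (hx : x ∈ N)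
    (h2 : IsPGroup 2 (zpowers x)) : x = 1 := by
  obtain ⟨n, hn⟩ := h2 ⟨x, mem_zpowers x⟩
  have h := congrArg Subtype.val hn
  simp only [SubmonoidClass.coe_pow, OneMemClass.coe_one] at h
  obtain ⟨i, -, hi⟩ := (Nat.dvd_prime_pow Nat.prime_two).1 (orderOf_dvd_of_pow_eq_one h)
  have ho := odd_orderOf_of_mem hN hx
  rw [hi] at ho
  cases i with
  | zero => exact orderOf_eq_one_iff.1 (by rw [hi, pow_zero])
  | succ m => exact absurd ho (by simp [parity_simps])

theorem isPGroup_zpowers_of_mem {p : ℕ} {P : Subgroup G} (hP : IsPGroup p P) {x : G} (hx : x ∈ P) :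
    IsPGroup p (zpowers x) := hP.to_le (zpowers_le.2 hx)

theorem isPGroup_zpowers_of_sq {x : G} {k : ℕ} (hx : x ^ 2 ^ k = 1) : IsPGroup 2 (zpowers x) := by
  rintro ⟨_, n, rfl⟩
  refine ⟨k, Subtype.ext ?_⟩
  show (x ^ n) ^ 2 ^ k = 1
  rw [← zpow_natCast, ← zpow_mul, mul_comm, zpow_mul, zpow_natCast, hx, one_zpow]

theorem isPGroup_zpowers_iff {x : G} :
    IsPGroup 2 (zpowers x) ↔ ∃ k : ℕ, x ^ 2 ^ k = 1 := by
  refine ⟨fun h => ?_, fun ⟨k, hk⟩ => isPGroup_zpowers_of_sq hk⟩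
  obtain ⟨k, hk⟩ := h ⟨x, mem_zpowers x⟩
  exact ⟨k, by simpa using congrArg Subtype.val hk⟩

theorem isPGroup_zpowers_invol {x : G} (hx : x * x = 1) : IsPGroup 2 (zpowers x) :=
  isPGroup_zpowers_of_sq (k := 1) (by rw [pow_one, pow_two, hx])

theorem isPGroup_zpowers_map {x : G} (hx : IsPGroup 2 (zpowers x)) (f : G →* G') :
    IsPGroup 2 (zpowers (f x)) := by
  obtain ⟨k, hk⟩ := isPGroup_zpowers_iff.1 hx
  exact isPGroup_zpowers_of_sq (k := k) (by rw [← map_pow, hk, map_one])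

/-- the largest perfect subgroup of `H` -/
def pres (H : Subgroup G) : Subgroup G := sSup {R | R ≤ H ∧ ⁅R, R⁆ = R}

theorem pres_le (H : Subgroup G) : pres H ≤ H := sSup_le fun _ h => h.1

theorem le_pres {H R : Subgroup G} (h : R ≤ H) (hR : ⁅R, R⁆ = R) : R ≤ pres H := le_sSup ⟨h, hR⟩

theorem pres_perfect (H : Subgroup G) : ⁅pres H, pres H⁆ = pres H := by
  refine le_antisymm (commutator_le_self _) (sSup_le fun R hR => ?_)
  exact hR.2.ge.trans (commutator_mono (le_pres hR.1 hR.2) (le_pres hR.1 hR.2))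

theorem le_normalizer_pres [Finite G] (H : Subgroup G) :
    normalizer (H : Set G) ≤ normalizer (pres H : Set G) := by
  intro g hg
  rw [mem_normalizer_iff_map_conj_eq] at hg ⊢
  refine Subgroup.eq_of_le_of_card_ge (le_pres ((map_mono (pres_le H)).trans hg.le) ?_)
    (Subgroup.card_map_of_injective (MulAut.conj g).injective).ge
  rw [← map_commutator, pres_perfect]

/-- a perfect subgroup of an image is the image of a perfect subgroup -/
theorem exists_perfect_lift [Finite G] (f : G →* G') {H : Subgroup G} {B : Subgroup G'}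
    (hB : B ≤ H.map f) (hperf : ⁅B, B⁆ = B) :
    ∃ A : Subgroup G, A ≤ H ∧ ⁅A, A⁆ = A ∧ A.map f = B := by
  obtain ⟨A, ⟨hAH, hAB⟩, hmin⟩ := WellFounded.has_min (wellFounded_lt (α := Subgroup G))
    {A | A ≤ H ∧ A.map f = B} ⟨H ⊓ B.comap f, inf_le_left, by
      refine le_antisymm (map_le_iff_le_comap.2 inf_le_right) fun b hb => ?_
      obtain ⟨a, ha, rfl⟩ := hB hb
      exact ⟨a, ⟨ha, hb⟩, rfl⟩⟩
  refine ⟨A, hAH, eq_of_le_of_not_lt (commutator_le_self A) fun hlt => ?_, hAB⟩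
  exact hmin ⁅A, A⁆ ⟨(commutator_le_self A).trans hAH, by rw [map_commutator, hAB, hperf]⟩ hlt

/-- every perfect subgroup has odd order -/
def NoEvenPerfect (H : Subgroup G) : Prop :=
  ∀ A : Subgroup G, A ≤ H → ⁅A, A⁆ = A → Odd (Nat.card A)

theorem noEvenPerfect_map [Finite G] {H : Subgroup G} (h : NoEvenPerfect H) (f : G →* G') :
    NoEvenPerfect (H.map f) := by
  intro B hB hBp
  obtain ⟨A, hAH, hAp, rfl⟩ := exists_perfect_lift f hB hBp
  exact Odd.of_dvd_nat (h A hAH hAp) (card_map_dvd _ _)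

theorem noEvenPerfect_mono {H H' : Subgroup G} (h : NoEvenPerfect H) (hle : H' ≤ H) :
    NoEvenPerfect H' := fun A hA hp => h A (hA.trans hle) hp

theorem commutatorElement_mul_central {J : Subgroup G} {a a' z₁ z₂ : G}
    (c1 : ∀ b ∈ J, Commute z₁ b) (c2 : ∀ b ∈ J, Commute z₂ b) (ha : a ∈ J) (ha' : a' ∈ J)
    (hz₂ : z₂ ∈ J) : ⁅a * z₁, a' * z₂⁆ = ⁅a, a'⁆ := by
  simp only [commutatorElement_def, mul_inv_rev]
  calc a * z₁ * (a' * z₂) * (z₁⁻¹ * a⁻¹) * (z₂⁻¹ * a'⁻¹)
      = a * (z₁ * (a' * z₂)) * z₁⁻¹ * a⁻¹ * (z₂⁻¹ * a'⁻¹) := by group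
    _ = a * ((a' * z₂) * z₁) * z₁⁻¹ * a⁻¹ * (z₂⁻¹ * a'⁻¹) := by
        rw [(c1 _ (mul_mem ha' hz₂)).eq]
    _ = a * a' * (z₂ * a⁻¹) * z₂⁻¹ * a'⁻¹ := by group
    _ = a * a' * (a⁻¹ * z₂) * z₂⁻¹ * a'⁻¹ := by rw [(c2 a⁻¹ (inv_mem ha)).eq]
    _ = _ := by group

/-- A perfect subgroup of a product of two commuting subgroups, centralizing an element normalizing
both factors, meets the first factor in the fixed points only. -/
theorem mem_right_of_perfect [Finite G] {J R : Subgroup G} (hR : ⁅R, R⁆ = R)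
    (hle : R ≤ J ⊔ centralizer (J : Set G)) {t : G} (htJ : t ∈ normalizer (J : Set G))
    (htR : ∀ r ∈ R, r * t = t * r) (hno : NoEvenPerfect (J ⊓ centralizer ({t} : Set G)))
    {r : G} (hr : r ∈ R) (hr2 : IsPGroup 2 (zpowers r)) : r ∈ centralizer (J : Set G) := by
  set Z := centralizer (J : Set G) with hZ
  have hcomm : ∀ a ∈ J, ∀ c ∈ Z, Commute a c := fun a ha c hc => hc a ha
  have hJZ : Z ≤ normalizer (J : Set G) := centralizer_le_normalizer _
  have htZ : t ∈ normalizer (Z : Set G) :=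
    Cfsg.Lib.Components.normalizer_le_normalizer_centralizer' _ htJ
  set F := J ⊓ centralizer ({t} : Set G) with hF
  have hFZ : F ≤ normalizer (Z : Set G) := inf_le_left.trans
    ((Subgroup.le_normalizer).trans (Cfsg.Lib.Components.normalizer_le_normalizer_centralizer' _))
  have hdec : ∀ x ∈ R, ∃ a ∈ J, ∃ c ∈ Z, a * c = x := fun x hx =>
    (Cfsg.Lib.Coprime.mem_sup_of_le_normalizer hJZ).mp (hle hx)
  have hRF : R ≤ F ⊔ Z := by
    rw [← hR, commutator_le]
    intro x hx x' hx'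
    obtain ⟨a, ha, c, hc, rfl⟩ := hdec x hx
    obtain ⟨a', ha', c', hc', rfl⟩ := hdec x' hx'
    have key : ∀ a c, a ∈ J → c ∈ Z → a * c ∈ R → ∀ b ∈ J,
        Commute (a⁻¹ * (t * a * t⁻¹)) b := by
      intro a c ha hc hac b hb
      have e : t * a * t⁻¹ * (t * c * t⁻¹) = a * c := by
        rw [show t * a * t⁻¹ * (t * c * t⁻¹) = t * (a * c) * t⁻¹ by group, ← htR _ hac,
          mul_inv_cancel_right]
      have h1 : a⁻¹ * (t * a * t⁻¹) = c * (t * c * t⁻¹)⁻¹ := by
        rw [eq_mul_inv_iff_mul_eq, mul_assoc, e, inv_mul_cancel_left]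
      rw [h1]
      exact ((hcomm b hb c hc).mul_right
        (hcomm b hb _ ((mem_normalizer_iff.1 htZ c).1 hc)).inv_right).symm
    set z₁ := a⁻¹ * (t * a * t⁻¹) with hz₁
    set z₂ := a'⁻¹ * (t * a' * t⁻¹) with hz₂
    have hz₁J : z₁ ∈ J := mul_mem (inv_mem ha) ((mem_normalizer_iff.1 htJ a).1 ha)
    have hz₂J : z₂ ∈ J := mul_mem (inv_mem ha') ((mem_normalizer_iff.1 htJ a').1 ha')
    have e : t * ⁅a, a'⁆ * t⁻¹ = ⁅a, a'⁆ := by
      have c1 := key a c ha hc hx
      have c2 := key a' c' ha' hc' hx'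
      rw [show t * ⁅a, a'⁆ * t⁻¹ = ⁅a * z₁, a' * z₂⁆ by
        simp only [hz₁, hz₂, commutatorElement_def]; group]
      exact commutatorElement_mul_central (fun b hb => c1 b hb) (fun b hb => c2 b hb) ha ha' hz₂J
    have e2 : ⁅a * c, a' * c'⁆ = ⁅a, a'⁆ * ⁅c, c'⁆ := by
      have h1 := hcomm a' ha' c hc
      have h2 := hcomm a ha c' hc'
      simp only [commutatorElement_def, mul_inv_rev]
      calc a * c * (a' * c') * (c⁻¹ * a⁻¹) * (c'⁻¹ * a'⁻¹)
          = a * (c * a') * c' * c⁻¹ * a⁻¹ * (c'⁻¹ * a'⁻¹) := by group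
        _ = a * a' * ((c * c' * c⁻¹) * a⁻¹) * (c'⁻¹ * a'⁻¹) := by rw [← h1.eq]; group
        _ = a * a' * (a⁻¹ * (c * c' * c⁻¹)) * (c'⁻¹ * a'⁻¹) := by
            rw [(hcomm a⁻¹ (inv_mem ha) (c * c' * c⁻¹)
              (mul_mem (mul_mem hc hc') (inv_mem hc))).eq]
        _ = a * a' * a⁻¹ * ((c * c' * c⁻¹ * c'⁻¹) * a'⁻¹) := by group
        _ = a * a' * a⁻¹ * (a'⁻¹ * (c * c' * c⁻¹ * c'⁻¹)) := by
            rw [(hcomm a'⁻¹ (inv_mem ha') (c * c' * c⁻¹ * c'⁻¹)
              (mul_mem (mul_mem (mul_mem hc hc') (inv_mem hc)) (inv_mem hc'))).eq]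
        _ = _ := by group
    rw [e2]
    exact mul_mem_sup ⟨commutator_le_self J (commutator_mem_commutator ha ha'),
      mem_centralizer_singleton_iff.2 (mul_inv_eq_iff_eq_mul.1 e).symm⟩
      (commutator_le_self Z (commutator_mem_commutator hc hc'))
  set M := F ⊔ Z with hM
  haveI : (Z.subgroupOf M).Normal :=
    normal_subgroupOf_of_le_normalizer (sup_le hFZ le_normalizer)
  set π := QuotientGroup.mk' (Z.subgroupOf M)
  have hR' : ⁅(R.subgroupOf M).map π, (R.subgroupOf M).map π⁆ = (R.subgroupOf M).map π := by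
    rw [← map_commutator]
    congr 1
    apply Subgroup.map_injective M.subtype_injective
    rw [map_commutator, map_subgroupOf_eq_of_le hRF, hR]
  have hle' : (R.subgroupOf M).map π ≤ (F.subgroupOf M).map π := by
    rintro _ ⟨x, -, rfl⟩
    have hx2 : (x : G) ∈ Z ⊔ F := by rw [sup_comm, ← hM]; exact x.2
    obtain ⟨a, ha, c, hc, hac⟩ := (Cfsg.Lib.Coprime.mem_sup_of_le_normalizer' hFZ).mp hx2
    refine ⟨⟨a, mem_sup_left ha⟩, ha, ?_⟩
    refine QuotientGroup.eq.2 ?_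
    rw [mem_subgroupOf]
    show a⁻¹ * (x : G) ∈ Z
    have : a⁻¹ * (x : G) = c := by rw [← hac, inv_mul_cancel_left]
    rw [this]
    exact hc
  have hno' : NoEvenPerfect (F.subgroupOf M) := by
    intro A hA hp
    rw [Nat.card_congr (Subgroup.equivMapOfInjective A _ M.subtype_injective).toEquiv]
    refine hno _ ?_ (by rw [← map_commutator, hp])
    rintro _ ⟨x, hx, rfl⟩
    exact hA hx
  have hodd := noEvenPerfect_map hno' π _ hle' hR'
  have h1 : π ⟨r, hRF hr⟩ = 1 := by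
    refine eq_one_of_two_odd hodd (mem_map_of_mem π hr) (isPGroup_zpowers_map ?_ π)
    obtain ⟨k, hk⟩ := isPGroup_zpowers_iff.1 hr2
    exact isPGroup_zpowers_of_sq (k := k) (Subtype.ext (by simpa using hk))
  exact mem_subgroupOf.1 ((QuotientGroup.eq_one_iff (⟨r, hRF hr⟩ : M)).1 h1)

end Cfsg.Lib.TwoCompPair
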