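import Cfsg.Agent.Components.TwoCompPair.Group

/-!
Two operators on an elementary abelian group of order sixteen.
-/

set_option linter.style.haveILetI false
set_option linter.unusedSectionVars false

namespace Cfsg.Lib.TwoCompPair

open Subgroup

universe u

variable {G : Type u} [Group G]

/-- exponent vectors -/
abbrev V16 := Bool × Bool × Bool × Bool

/-- `x` or `1` -/
def pw (x : G) (b : Bool) : G := bif b then x else 1

/-- evaluation -/
def ev (z σ s d : G) (v : V16) : G := pw z v.1 * pw σ v.2.1 * pw s v.2.2.1 * pw d v.2.2.2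

theorem pw_xor {x : G} (hx : x * x = 1) (a b : Bool) : pw x (a ^^ b) = pw x a * pw x b := by
  cases a <;> cases b <;> simp [pw, hx]

theorem pw_commute {x y : G} (h : Commute x y) (a b : Bool) : Commute (pw x a) (pw y b) := by
  cases a <;> cases b <;> simp [pw, h]

theorem pw_mem {H : Subgroup G} {x : G} (hx : x ∈ H) (a : Bool) : pw x a ∈ H := by
  cases a <;> simp [pw, hx]

/-- the four commuting involutions -/
structure Basis (z σ s d : G) : Prop where
  hz : z * z = 1
  hσ : σ * σ = 1
  hs : s * s = 1
  hd : d * d = 1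
  zσ : Commute z σ
  zs : Commute z s
  zd : Commute z d
  σs : Commute σ s
  σd : Commute σ d
  sd : Commute s d

variable {z σ s d : G}

theorem ev_mul (B : Basis z σ s d) (v w : V16) :
    ev z σ s d v * ev z σ s d w =
      ev z σ s d (v.1 ^^ w.1, v.2.1 ^^ w.2.1, v.2.2.1 ^^ w.2.2.1, v.2.2.2 ^^ w.2.2.2) := by
  obtain ⟨a, b, c, e⟩ := v
  obtain ⟨a', b', c', e'⟩ := w
  simp only [ev, pw_xor B.hz, pw_xor B.hσ, pw_xor B.hs, pw_xor B.hd]
  have h1 : Commute (pw d e) (pw z a' * pw σ b' * pw s c') :=
    ((pw_commute B.zd.symm e a').mul_right (pw_commute B.σd.symm e b')).mul_right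
      (pw_commute B.sd.symm e c')
  have h2 : Commute (pw s c) (pw z a' * pw σ b') :=
    (pw_commute B.zs.symm c a').mul_right (pw_commute B.σs.symm c b')
  have h3 : Commute (pw σ b) (pw z a') := pw_commute B.zσ.symm b a'
  rw [h1.mul_mul_mul_comm, h2.mul_mul_mul_comm, h3.mul_mul_mul_comm]

/-- the operator of `h` -/
def fh (b : Bool) (v : V16) : V16 := (v.1 ^^ (v.2.1 && b) ^^ v.2.2.1, v.2.1, v.2.2.1, v.2.2.2 ^^ v.2.1)

/-- the operator of `e` -/
def fe (v : V16) : V16 := (v.2.1, v.1 ^^ v.2.1, v.2.1 ^^ v.2.2.1, v.2.2.2)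

/-- `W` induces `f` -/
def Induces (z σ s d : G) (W : G) (f : V16 → V16) : Prop :=
  ∀ v, cj W (ev z σ s d v) = ev z σ s d (f v)

theorem Induces.mul {W₁ W₂ : G} {f₁ f₂ : V16 → V16} (h₁ : Induces z σ s d W₁ f₁)
    (h₂ : Induces z σ s d W₂ f₂) : Induces z σ s d (W₁ * W₂) (fun v => f₂ (f₁ v)) := fun v => by
  rw [cj_mul, h₁, h₂]

theorem induces_h (B : Basis z σ s d) {W : G} {b : Bool} (hz : cj W z = z) (hσ : cj W σ = σ * d * pw z b)
    (hs : cj W s = s * z) (hd : cj W d = d) : Induces z σ s d W (fh b) := by
  have e1 : z = ev z σ s d (true, false, false, false) := by simp [ev, pw]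
  have e2 : σ * d * pw z b = ev z σ s d (b, true, false, true) := by
    cases b
    · simp [ev, pw]
    · simp only [ev, pw, cond_true, cond_false, mul_one]
      rw [mul_assoc σ, ← B.zd.eq, ← mul_assoc σ, ← B.zσ.eq]
  have e3 : s * z = ev z σ s d (true, false, true, false) := by
    simp only [ev, pw, cond_true, cond_false, mul_one]; exact B.zs.symm.eq
  have e4 : d = ev z σ s d (false, false, false, true) := by simp [ev, pw]
  rintro ⟨a, c, p, q⟩
  have key : ∀ (x : G) (t : Bool) (v : V16), cj W x = ev z σ s d v →
      cj W (pw x t) = ev z σ s d (t && v.1, t && v.2.1, t && v.2.2.1, t && v.2.2.2) := by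
    intro x t v hx
    cases t
    · simp [pw, ev]
    · simpa [pw] using hx
  rw [ev, map_mul, map_mul, map_mul, key z a _ (hz.trans e1), key σ c _ (hσ.trans e2),
    key s p _ (hs.trans e3), key d q _ (hd.trans e4), ev_mul B, ev_mul B, ev_mul B]
  cases a <;> cases c <;> cases p <;> cases q <;> cases b <;> rfl

theorem induces_e (B : Basis z σ s d) {W : G} (hz : cj W z = σ) (hσ : cj W σ = z * σ * s)
    (hs : cj W s = s) (hd : cj W d = d) : Induces z σ s d W fe := by
  have e1 : σ = ev z σ s d (false, true, false, false) := by simp [ev, pw]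
  have e2 : z * σ * s = ev z σ s d (true, true, true, false) := by simp [ev, pw]
  have e3 : s = ev z σ s d (false, false, true, false) := by simp [ev, pw]
  have e4 : d = ev z σ s d (false, false, false, true) := by simp [ev, pw]
  rintro ⟨a, c, p, q⟩
  have key : ∀ (x : G) (t : Bool) (v : V16), cj W x = ev z σ s d v →
      cj W (pw x t) = ev z σ s d (t && v.1, t && v.2.1, t && v.2.2.1, t && v.2.2.2) := by
    intro x t v hx
    cases t
    · simp [pw, ev]
    · simpa [pw] using hx
  rw [ev, map_mul, map_mul, map_mul, key z a _ (hz.trans e1), key σ c _ (hσ.trans e2),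
    key s p _ (hs.trans e3), key d q _ (hd.trans e4), ev_mul B, ev_mul B, ev_mul B]
  cases a <;> cases c <;> cases p <;> cases q <;> rfl

/-- some element fixes `s` and moves `σ` to a product containing `d` -/
theorem exists_word (B : Basis z σ s d) {Wh We : G} {b : Bool} (hh : Induces z σ s d Wh (fh b))
    (he : Induces z σ s d We fe) :
    ∃ (W : G) (v : V16), cj W s = s ∧ cj W σ = ev z σ s d v ∧ v.2.2.2 = true := by
  have e3 : s = ev z σ s d (false, false, true, false) := by simp [ev, pw]
  have e2 : σ = ev z σ s d (false, true, false, false) := by simp [ev, pw]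
  cases b
  · have hw := (((((((((hh.mul he).mul hh).mul he).mul hh).mul he).mul he).mul hh).mul he).mul he).mul hh
    have h1 := hw (false, false, true, false)
    beta_reduce at h1
    have h2 := hw (false, true, false, false)
    rw [← e2] at h2
    rw [show fh false (fe (fe (fh false (fe (fe (fh false (fe (fh false (fe (fh false
      (false, false, true, false))))))))))) = (false, false, true, false) by rfl, ← e3] at h1
    exact ⟨_, _, h1, h2, rfl⟩
  · have hw := (((((((((hh.mul he).mul he).mul hh).mul he).mul he).mul hh).mul he).mul hh).mul he).mul hh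
    have h1 := hw (false, false, true, false)
    beta_reduce at h1
    have h2 := hw (false, true, false, false)
    rw [← e2] at h2
    rw [show fh true (fe (fh true (fe (fh true (fe (fe (fh true (fe (fe (fh true
      (false, false, true, false))))))))))) = (false, false, true, false) by rfl, ← e3] at h1
    exact ⟨_, _, h1, h2, rfl⟩

end Cfsg.Lib.TwoCompPair
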