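import Cfsg.Agent.Components.TwoCompPair.PartTwo
import Cfsg.Agent.Components.TwoCompPair.Sixteen

/-!
Two-elements of one component centralizing the involution of the other normalize that component.
-/

set_option linter.style.haveILetI false
set_option linter.unusedSectionVars false

namespace Cfsg.Lib.TwoCompPair

open Subgroup Cfsg.Lib.Components
open scoped commutatorElement

universe u

variable {G : Type u} [Group G] [Finite G] {z s : G} {J K : Subgroup G}

theorem IsSyl.inf {u : G} (h : TC u J) {P : Subgroup G} (hP : IsSyl P (C u)) : IsSyl (P ⊓ J) J := by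
  haveI : Fact (Nat.Prime 2) := ⟨Nat.prime_two⟩
  refine ⟨inf_le_right, hP.2.1.to_le inf_le_left, ?_⟩
  obtain ⟨S, hS⟩ := hP.exists_sylow
  obtain ⟨Q, hQ⟩ := Cfsg.Agent.S0542.result 2 (J.subgroupOf (C u)) h.comp.1 S
  rw [inf_relIndex_right, ← relIndex_subgroupOf (H := P) h.le, ← hS, relIndex, ← hQ]
  exact Q.not_dvd_index

theorem commute_exact {u : G} {J J' P : Subgroup G} (h : TC u J) (h' : TC u J') (hne : J ≠ J')
    (hP : IsPGroup 2 P) {a b : G} (ha : a ∈ J) (hb : b ∈ J') (haP : a ∈ P) (hbP : b ∈ P) :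
    Commute a b :=
  commute_of_mem hP haP hbP (h.commutator_mem_O h' hne ha hb)

theorem conj_mem_of_mem {P : Subgroup G} {a y : G} (ha : a ∈ P) (hy : y ∈ P) : y⁻¹ * a * y ∈ P :=
  mul_mem (mul_mem (inv_mem hy) ha) hy

/-- adjust a conjugate inside the core -/
theorem adjust {u a b : G} (ha : a * a = 1) (hb : b * b = 1) (hab : a * b ∈ O u) :
    ∃ c ∈ O u, c⁻¹ * a * c = b ∧ ∀ x, Commute x a → Commute x b → Commute x c := by
  obtain ⟨c, hc, hcab⟩ := invol_conj ha hb (odd_orderOf_of_mem (O_odd u) hab)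
  refine ⟨c, zpowers_le.2 hab hc, hcab, fun x hxa hxb => ?_⟩
  obtain ⟨i, rfl⟩ := mem_zpowers_iff.1 hc
  exact (hxa.mul_right hxb).zpow_right i

theorem mul_mem_O_of_q {u : G} {a b : C u} (h : q u a = q u b) (hb : (b : G) * b = 1) :
    (a : G) * b ∈ O u := by
  show ((a * b : C u) : G) ∈ O u
  rw [mem_O_iff, map_mul, h, ← map_mul, show b * b = 1 from Subtype.ext hb, map_one]

theorem q_mul_O {u : G} {a : C u} {c : G} (hc : c ∈ O u) :
    q u (a * ⟨c, O_le u hc⟩) = q u a := by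
  rw [map_mul, (mem_O_iff (x := ⟨c, O_le u hc⟩)).1 hc, mul_one]

theorem pow_four {x w : G} (hx : x * x = w) (hw : w * w = 1) : x ^ 2 ^ 2 = 1 := by
  rw [show x ^ 2 ^ 2 = (x * x) * (x * x) by simp [pow_succ, mul_assoc], hx, hw]

/-- the case of elements of order at least eight -/
theorem part_one_big (hJ : TC z J) (hK : TC s K)
    (hcard : (Nat.card J).factorization 2 = (Nat.card K).factorization 2) {y : G} (hy : y ∈ K)
    (hy2 : IsPGroup 2 (zpowers y)) (hyz : Commute y z) (hne : s ≠ z)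
    (hu : y * y ∈ normalizer (J : Set G)) (hyJ : y ∉ normalizer (J : Set G))
    (hy4 : y * y * (y * y) ≠ 1) : False := by
  haveI : Fact (Nat.Prime 2) := ⟨Nat.prime_two⟩
  have hss := hK.mul_self
  have hys : Commute y s := hK.commute hy
  obtain ⟨e, hye⟩ := isPGroup_zpowers_iff.1 hy2
  obtain ⟨e', -, he'⟩ := (Nat.dvd_prime_pow Nat.prime_two).1 (orderOf_dvd_of_pow_eq_one hye)
  have he3 : 3 ≤ e' := by
    by_contra hcon
    apply hy4
    rw [show y * y * (y * y) = y ^ 2 ^ 2 by simp [pow_succ, mul_assoc], ← orderOf_dvd_iff_pow_eq_one, he']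
    exact Nat.pow_dvd_pow 2 (by omega)
  -- the Sylow subgroup
  obtain ⟨P, hP, hyP⟩ := exists_isSyl (H := C z) hy2 (zpowers_le.2 (mem_C.2 hyz))
  have hyP' : y ∈ P := hyP (mem_zpowers y)
  have hS := IsSyl.inf hJ hP
  obtain ⟨A, qS⟩ := hJ.exists_qs hS
  -- `|S| ≥ 16`
  obtain ⟨T, hT, hyT⟩ := exists_isSyl (H := K) hy2 (zpowers_le.2 hy)
  obtain ⟨B, qT⟩ := hK.exists_qs hT
  have h16 : 16 ≤ Nat.card (P ⊓ J : Subgroup G) := by
    rw [hS.card_eq, hcard, ← hT.card_eq]
    have hd : 2 ^ e' ∣ Nat.card T := by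
      rw [← he', ← Nat.card_zpowers]; exact Subgroup.card_dvd_of_le hyT
    have hlt : 2 ^ e' ≠ Nat.card T := by
      intro heq
      obtain ⟨x, hx, hxB⟩ := qT.exists_out
      haveI : IsCyclic T := isCyclic_of_orderOf_eq_card (⟨y, hyT (mem_zpowers y)⟩ : T)
        ((Subgroup.orderOf_mk _ _).trans (he'.trans heq))
      letI : CommGroup T := IsCyclic.commGroup
      obtain ⟨a, ha, -, ha2⟩ := qT.exists_gen
      exact ha2 (qT.sq_of_commute_out ha hx hxB (congrArg Subtype.val (mul_comm (⟨a, qT.le ha⟩ : T) ⟨x, hx⟩)))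
    obtain ⟨i, hi⟩ := IsPGroup.iff_card.1 hT.2.1
    rw [hi] at hd hlt ⊢
    have h1 := (Nat.pow_dvd_pow_iff_le_right (by norm_num : 1 < 2)).1 hd
    have h2 : e' ≠ i := fun h => hlt (by rw [h])
    calc 16 = 2 ^ 4 := by norm_num
      _ ≤ 2 ^ i := Nat.pow_le_pow_right two_pos (by omega)
  -- an element of order eight
  obtain ⟨a₀, ha₀, ha₀o, -⟩ := qS.exists_gen
  obtain ⟨i, hi⟩ := IsPGroup.iff_card.1 (qS.pgroup.to_le qS.le)
  have hi3 : 3 ≤ i := by
    by_contra hcon
    have h1 : Nat.card A ≤ 4 := by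
      rw [hi]; calc 2 ^ i ≤ 2 ^ 2 := Nat.pow_le_pow_right two_pos (by omega)
        _ = 4 := by norm_num
    have := qS.card_A
    omega
  set v := a₀ ^ 2 ^ (i - 3) with hv
  have hvA : v ∈ A := pow_mem ha₀ _
  have hvS : v ∈ P ⊓ J := qS.le hvA
  have hv8 : orderOf v = 8 := by
    rw [hv, orderOf_pow' _ (by positivity), ha₀o, hi,
      Nat.gcd_eq_right (Nat.pow_dvd_pow 2 (by omega)), Nat.pow_div (by omega) two_pos,
      show i - (i - 3) = 3 by omega]
    norm_num
  set t := v * v with ht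
  have htt : t * t = z := by
    rcases qS.uniq (t * t) (mul_mem (mul_mem hvS hvS) (mul_mem hvS hvS)) (by
      rw [ht, show v * v * (v * v) * (v * v * (v * v)) = v ^ 8 by simp [pow_succ, mul_assoc], ← hv8,
        pow_orderOf_eq_one]) with e | e
    · exfalso
      have h : orderOf v ∣ 4 := orderOf_dvd_of_pow_eq_one (by
        rw [← e, ht]; simp [pow_succ, mul_assoc])
      rw [hv8] at h; norm_num at h
    · exact e
  -- `y * y` acts on `v`
  set u := y * y with hu'
  set c := u⁻¹ * v * u with hc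
  have huP : u ∈ P := mul_mem hyP' hyP'
  have hcS : c ∈ P ⊓ J := Subgroup.mem_inf.2
    ⟨conj_mem_of_mem hvS.1 huP, cj_mem_of_normalizer hu hvS.2⟩
  have hcA : c ∈ A := by
    refine qS.A_of_sq hcS fun h => ?_
    have h1 : c * c = u⁻¹ * t * u := by rw [hc, ht]; group
    have h2 : t = z := by
      have huz : Commute u z := hyz.mul_left hyz
      rw [h1] at h
      calc t = u * (u⁻¹ * t * u) * u⁻¹ := by group
        _ = z := by rw [h, huz.eq, mul_inv_cancel_right]
    rw [h2, hJ.mul_self] at htt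
    exact hJ.ne_one htt.symm
  obtain ⟨k, hk⟩ : ∃ k : ℤ, v ^ k = c := by
    have hz : zpowers a₀ = A := Subgroup.eq_of_le_of_card_ge (zpowers_le.2 ha₀)
      (by rw [Nat.card_zpowers, ha₀o])
    rw [← hz] at hcA
    obtain ⟨l, hl⟩ := mem_zpowers_iff.1 hcA
    have h8 : c ^ 8 = 1 := by
      have : (u⁻¹ * v * u⁻¹⁻¹) ^ 8 = u⁻¹ * v ^ 8 * u⁻¹⁻¹ := conj_pow
      rw [inv_inv, ← hc, show v ^ 8 = 1 by rw [← hv8, pow_orderOf_eq_one], mul_one, inv_mul_cancel] at this
      exact this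
    rw [← hl, ← zpow_natCast, ← zpow_mul, ← orderOf_dvd_iff_zpow_eq_one, ha₀o, hi,
      show i = (i - 3) + 3 by omega, pow_add] at h8
    push_cast at h8
    norm_num at h8
    obtain ⟨k, hk⟩ := h8
    refine ⟨k, ?_⟩
    rw [hv, ← zpow_natCast, ← zpow_mul, ← hl]
    congr 1
    push_cast
    linarith
  have huu : Commute (u * u) v := by
    apply commute_of_cj
    rw [cj_mul, cj_apply u v, ← hc, ← hk, map_zpow, cj_apply u v, ← hc, ← hk, ← zpow_mul,
      ← mul_inv_eq_one, ← zpow_sub_one, ← orderOf_dvd_iff_zpow_eq_one, hv8]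
    rcases Int.even_or_odd k with ⟨l, rfl⟩ | ⟨l, rfl⟩
    · exfalso
      have h : c ^ 4 = 1 := by
        rw [← hk, ← zpow_natCast, ← zpow_mul, ← orderOf_dvd_iff_zpow_eq_one, hv8]
        exact ⟨l, by push_cast; ring⟩
      have h4 : v ^ 4 = 1 := by
        have : (u⁻¹ * v * u⁻¹⁻¹) ^ 4 = u⁻¹ * v ^ 4 * u⁻¹⁻¹ := conj_pow
        rw [inv_inv, ← hc, h] at this
        calc v ^ 4 = u * (u⁻¹ * v ^ 4 * u) * u⁻¹ := by group
          _ = 1 := by rw [← this]; group
      have := orderOf_dvd_of_pow_eq_one h4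
      rw [hv8] at this; norm_num at this
    · obtain ⟨m, hm⟩ := Int.even_mul_succ_self l
      exact ⟨m, by push_cast; linear_combination 4 * hm⟩
  have hsv : Commute s v := by
    have hs' : s = (u * u) ^ 2 ^ (e' - 3) := by
      have hp : (u * u) ^ 2 ^ (e' - 3) = y ^ 2 ^ (e' - 1) := by
        rw [hu', show y * y * (y * y) = y ^ 2 ^ 2 by simp [pow_succ, mul_assoc], ← pow_mul, ← pow_add,
          show 2 + (e' - 3) = e' - 1 by omega]
      rw [hp]
      refine (hK.uniq _ (pow_mem hy _) ?_).symm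
      rw [orderOf_pow' _ (by positivity), he', Nat.gcd_eq_right (Nat.pow_dvd_pow 2 (by omega)),
        Nat.pow_div (by omega) two_pos, show e' - (e' - 1) = 1 by omega, pow_one]
    rw [hs']
    exact huu.pow_left _
  have hvz : Commute v z := hJ.commute hvS.2
  -- the commutator of `v` and `y`
  have hJ' : TC z (J.map (cj y)) := hJ.conj hyz
  have hJne : J ≠ J.map (cj y) := fun h => hyJ (map_cj_eq_iff.1 h.symm)
  have comm : ∀ a b, a ∈ P ⊓ J → b ∈ P ⊓ J → Commute a (y⁻¹ * b * y) := fun a b ha hb =>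
    commute_exact hJ hJ' hJne hP.2.1 ha.2 (mem_map_cj hb.2) ha.1 (conj_mem_of_mem hb.1 hyP')
  set a' := v⁻¹ * (y⁻¹ * v * y) with ha'
  set a := t⁻¹ * (y⁻¹ * t * y) with ha
  have hcvv := comm v v hvS hvS
  have ha'a : a' * a' = a := by
    rw [ha', hcvv.inv_left.symm.mul_mul_mul_comm, ha, ht]
    group
  have htS : t ∈ P ⊓ J := mul_mem hvS hvS
  have haa : a * a = 1 := by
    rw [ha, (comm t t htS htS).inv_left.symm.mul_mul_mul_comm,
      show y⁻¹ * t * y * (y⁻¹ * t * y) = y⁻¹ * (t * t) * y by group, htt, ← mul_inv_rev, htt,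
      show y⁻¹ * z * y = z by rw [mul_assoc, ← hyz.eq, inv_mul_cancel_left], invol_inv hJ.mul_self,
      hJ.mul_self]
  have hane : a ≠ 1 := by
    intro h
    rw [ha, inv_mul_eq_one] at h
    rcases hJ.inter_two hJ' hJne htS.2 (mem_map_cj (g := y) htS.2) (by
      rw [← h, inv_mul_cancel]; exact one_mem _) (isPGroup_zpowers_of_mem hP.2.1 htS.1) with e | e
    · rw [e, one_mul] at htt; exact hJ.ne_one htt.symm
    · rw [e, hJ.mul_self] at htt; exact hJ.ne_one htt.symm
  have hy2s : IsPGroup 2 (zpowers (y * y)) :=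
    hy2.to_le (zpowers_le.2 (mul_mem (mem_zpowers y) (mem_zpowers y)))
  have hcontra : ∀ (K₁ : Subgroup G) (k' : G), TC s K₁ → K ≠ K₁ → k' ∈ K₁ →
      (y * y)⁻¹ * k' ∈ O s → False := by
    intro K₁ k' h1 h2 h3 h4
    rcases hK.inter_two h1 h2 (mul_mem hy hy) h3 h4 hy2s with e | e
    · exact hy4 (by rw [hu', e, one_mul])
    · exact hy4 (by rw [hu', e, hss])
  have hts : Commute t s := hsv.symm.mul_left hsv.symm
  -- `t` normalizes `K`
  have htK : t ∈ normalizer (K : Set G) := by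
    by_contra hn
    have hK₁ : TC s (K.map (cj t)) := hK.conj hts
    have hK₁ne : K ≠ K.map (cj t) := fun h => hn (map_cj_eq_iff.1 h.symm)
    set y₁ := t⁻¹ * y * t with hy₁
    refine hcontra _ (y₁ * y₁) hK₁ hK₁ne (mul_mem (mem_map_cj hy) (mem_map_cj hy)) ?_
    set Y : C s := ⟨y, hK.le hy⟩
    set Y₁ : C s := ⟨y₁, hK₁.le (mem_map_cj hy)⟩
    have hcq : Commute (q s Y) (q s Y₁) :=
      commute_q_iff.2 (hK.commutator_mem_O hK₁ hK₁ne hy (mem_map_cj hy))
    have h1 : q s (Y₁⁻¹ * Y * (Y₁⁻¹ * Y)) = 1 := by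
      rw [show Y₁⁻¹ * Y * (Y₁⁻¹ * Y) = (1 : C s) from Subtype.ext (by
        show y₁⁻¹ * y * (y₁⁻¹ * y) = 1
        rw [show y₁⁻¹ * y = a by rw [hy₁, ha]; group, haa]), map_one]
    rw [map_mul, map_mul, map_inv, hcq.inv_right.mul_mul_mul_comm, ← mul_inv_rev, inv_mul_eq_one] at h1
    exact (q_eq_iff (a := Y * Y) (b := Y₁ * Y₁)).1 (by rw [map_mul, map_mul]; exact h1.symm)
  have haK : a ∈ K := by
    rw [ha, show t⁻¹ * (y⁻¹ * t * y) = (t⁻¹ * y * t)⁻¹ * y by group]
    exact mul_mem (inv_mem (cj_mem_of_normalizer htK hy)) hy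
  have has : a = s := hK.uniq a haK (orderOf_eq_two haa hane)
  -- `v` normalizes `K`
  have hvK : v ∈ normalizer (K : Set G) := by
    by_contra hn
    have hK₁ : TC s (K.map (cj v)) := hK.conj hsv.symm
    have hK₁ne : K ≠ K.map (cj v) := fun h => hn (map_cj_eq_iff.1 h.symm)
    set y₁ := v⁻¹ * y * v with hy₁
    refine hcontra _ (y₁ * y₁ * s) hK₁ hK₁ne (mul_mem (mul_mem (mem_map_cj hy) (mem_map_cj hy)) hK₁.mem) ?_
    set Y : C s := ⟨y, hK.le hy⟩
    set Y₁ : C s := ⟨y₁, hK₁.le (mem_map_cj hy)⟩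
    set S : C s := ⟨s, self_mem_C s⟩
    have hcq : Commute (q s Y) (q s Y₁) :=
      commute_q_iff.2 (hK.commutator_mem_O hK₁ hK₁ne hy (mem_map_cj hy))
    have h1 : q s (Y₁⁻¹ * Y * (Y₁⁻¹ * Y)) = q s S := by
      congr 1
      apply Subtype.ext
      show y₁⁻¹ * y * (y₁⁻¹ * y) = s
      rw [show y₁⁻¹ * y = a' by rw [hy₁, ha']; group, ha'a, has]
    rw [map_mul, map_mul, map_inv, hcq.inv_right.mul_mul_mul_comm, ← mul_inv_rev,
      inv_mul_eq_iff_eq_mul] at h1
    exact (q_eq_iff (a := Y * Y) (b := Y₁ * Y₁ * S)).1 (by rw [map_mul, map_mul, map_mul]; exact h1)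
  have ha'K : a' ∈ K := by
    rw [ha', show v⁻¹ * (y⁻¹ * v * y) = (v⁻¹ * y * v)⁻¹ * y by group]
    exact mul_mem (inv_mem (cj_mem_of_normalizer hvK hy)) hy
  -- `y⁻¹ a' y = a'⁻¹`
  have htu : u⁻¹ * t * u = t := by
    have h1 : y⁻¹ * t * y = t * s := by rw [← has, ha, mul_inv_cancel_left]
    rw [hu', show (y * y)⁻¹ * t * (y * y) = y⁻¹ * (y⁻¹ * t * y) * y by group, h1,
      show y⁻¹ * (t * s) * y = y⁻¹ * t * (s * y) by group, ← hys.eq,
      show y⁻¹ * t * (y * s) = (y⁻¹ * t * y) * s by group, h1, mul_assoc, hss, mul_one]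
  have hvc : v⁻¹ * c = 1 ∨ v⁻¹ * c = z := by
    refine qS.uniq _ (mul_mem (inv_mem hvS) hcS) ?_
    have hcc : Commute c v := hk ▸ (Commute.refl v).zpow_left k
    rw [hcc.inv_right.mul_mul_mul_comm, show c * c = u⁻¹ * t * u by rw [hc, ht]; group, htu, ht]
    group
  have hya : y⁻¹ * a' * y = a'⁻¹ := by
    have h1 : a' * (y⁻¹ * a' * y) = v⁻¹ * c := by rw [ha', hc, hu']; group
    have hmem : v⁻¹ * c ∈ K := h1 ▸ mul_mem ha'K (cj_mem_of_normalizer (le_normalizer hy) ha'K)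
    rcases hvc with e | e
    · exact (inv_eq_of_mul_eq_one_right (h1.trans e)).symm
    · exact absurd (hK.uniq z (e ▸ hmem) hJ.two) hne.symm
  have ha'2 : a' * a' = s := ha'a.trans has
  have ha'p : IsPGroup 2 (zpowers a') := isPGroup_zpowers_of_sq (k := 2) (pow_four ha'2 hss)
  have hyn : zpowers y ≤ normalizer (zpowers a' : Set G) := by
    refine zpowers_le.2 (inv_mem_iff.1 (Cfsg.Lib.ZStarApps.mem_normalizer_of_maps ?_))
    intro x hx
    obtain ⟨l, rfl⟩ := mem_zpowers_iff.1 hx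
    rw [← conj_zpow, inv_inv, hya, inv_zpow]
    exact inv_mem (zpow_mem (mem_zpowers a') l)
  obtain ⟨T', hT', hle⟩ := exists_isSyl (H := K) (hy2.to_sup_of_normal_right' ha'p hyn)
    (sup_le (zpowers_le.2 hy) (zpowers_le.2 ha'K))
  obtain ⟨B', qT'⟩ := hK.exists_qs hT'
  have hca : Commute a' (y * y) := by
    refine (commute_of_cj ?_).symm
    rw [cj_mul, cj_apply y a', hya, map_inv, cj_apply, hya, inv_inv]
  have hcy := qT'.commute_of_commute_sq (hle (mem_sup_left (mem_zpowers y)))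
    (hle (mem_sup_right (mem_zpowers a')))
    (fun h => hy4 (by rw [hu', h, hss])) hy4 hca
  rw [mul_assoc, hcy.eq, inv_mul_cancel_left, eq_inv_iff_mul_eq_one, ha'2] at hya
  exact hK.ne_one hya

/-- the subcase that `s` centralizes a Sylow subgroup of `J` -/
theorem part_one_centralized (hJ : TC z J) (hK : TC s K) {y : G} (hy : y ∈ K) (hyz : Commute y z)
    (hne : s ≠ z) (hsJ : s ∈ normalizer (J : Set G)) (hcom : Commute z s)
    (hyJ : y ∉ normalizer (J : Set G)) {S : Subgroup G} (hS : IsSyl S J)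
    (hc : ∀ a ∈ S, Commute a s) : False := by
  haveI : Fact (Nat.Prime 2) := ⟨Nat.prime_two⟩
  have hzz := hJ.mul_self
  rcases hJ.zstar hK.mul_self hcom.symm hsJ with hleft | ⟨c, hc', hcs⟩
  swap
  · let H : Subgroup G :=
      { carrier := {k | k ∈ J ∧ (k⁻¹ * s * k = s ∨ k⁻¹ * s * k = s * z)}
        one_mem' := ⟨one_mem _, Or.inl (by group)⟩
        mul_mem' := fun {a b} ha hb => by
          refine ⟨mul_mem ha.1 hb.1, ?_⟩
          have hbz : b⁻¹ * z * b = z := by rw [← cj_apply]; exact cj_eq_self (hJ.commute hb.1)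
          rw [show (a * b)⁻¹ * s * (a * b) = b⁻¹ * (a⁻¹ * s * a) * b by group]
          rcases ha.2 with e | e <;> rw [e]
          · exact hb.2
          · rw [show b⁻¹ * (s * z) * b = (b⁻¹ * s * b) * (b⁻¹ * z * b) by group, hbz]
            rcases hb.2 with e' | e' <;> rw [e']
            · exact Or.inr rfl
            · left; rw [mul_assoc, hzz, mul_one]
        inv_mem' := fun {a} ha => by
          refine ⟨inv_mem ha.1, ?_⟩
          have haz : a * z * a⁻¹ = z := by rw [(hJ.commute ha.1).eq, mul_inv_cancel_right]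
          rw [inv_inv]
          rcases ha.2 with e | e
          · left
            calc a * s * a⁻¹ = a * (a⁻¹ * s * a) * a⁻¹ := by rw [e]
              _ = s := by group
          · right
            have h1 : a * (a⁻¹ * s * a) * a⁻¹ = s := by group
            rw [e, show a * (s * z) * a⁻¹ = a * s * a⁻¹ * (a * z * a⁻¹) by group, haz] at h1
            rw [← invol_inv hzz]
            exact eq_mul_inv_of_mul_eq h1 }
    set C₀ := J ⊓ C s
    have h0 : C₀ ≤ H := fun k hk => ⟨hk.1, Or.inl (by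
      rw [← cj_apply]; exact cj_eq_self (mem_C.1 hk.2))⟩
    have hidx : C₀.relIndex H = 2 := by
      rw [relIndex, index_eq_two_iff]
      refine ⟨⟨c, hc', Or.inr hcs⟩, fun ⟨b, hb⟩ => ?_⟩
      have key : ∀ x : G, x ∈ J → (x ∈ C₀ ↔ x⁻¹ * s * x = s) := fun x hx =>
        ⟨fun h => by rw [← cj_apply]; exact cj_eq_self (mem_C.1 h.2),
          fun h => ⟨hx, mem_C.2 (commute_of_cj (by rw [cj_apply]; exact h))⟩⟩
      have hzne : s * z ≠ s := fun h => hJ.ne_one (mul_eq_left.1 h)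
      have hcz : c⁻¹ * z * c = z := by rw [← cj_apply]; exact cj_eq_self (hJ.commute hc')
      simp only [mem_subgroupOf, Subgroup.coe_mul]
      rw [key _ (mul_mem hb.1 hc'), key _ hb.1,
        show (b * c)⁻¹ * s * (b * c) = c⁻¹ * (b⁻¹ * s * b) * c by group]
      rcases hb.2 with e | e <;> rw [e]
      · rw [hcs]
        exact Or.inr ⟨rfl, hzne⟩
      · rw [show c⁻¹ * (s * z) * c = (c⁻¹ * s * c) * (c⁻¹ * z * c) by group, hcs, hcz, mul_assoc, hzz,
          mul_one]
        exact Or.inl ⟨rfl, hzne⟩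
    have hSC : S ≤ C₀ := fun a ha => ⟨hS.1 ha, mem_C.2 (hc a ha)⟩
    apply hS.2.2
    rw [← relIndex_mul_relIndex S H J (hSC.trans h0) (fun k hk => hk.1),
      ← relIndex_mul_relIndex S C₀ H hSC h0, hidx]
    exact Dvd.dvd.mul_right (dvd_mul_left 2 _) _
  obtain ⟨hzE, hEle⟩ := hJ.mem_pLayerOf hK.two hcom.symm hleft
  set E := pLayerOf 2 (J ⊓ C s)
  have hEL : E ≤ L s := by
    refine hEle.trans ?_
    rw [LL_comm]; exact LL_le_L hzz hcom
  set N := O z ⊓ L s
  have hNn : N ≤ normalizer (K : Set G) := inf_le_right.trans hK.L_normalizes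
  have hE : E ≤ K ⊔ N := by
    have hEp : ⁅E, E⁆ = E := pLayerOf_perfect _
    rw [← hEp, commutator_le]
    intro a ha b hb
    set b' := y⁻¹ * b * y with hb'
    have hJ' : TC z (J.map (cj y)) := hJ.conj hyz
    have hJne : J ≠ J.map (cj y) := fun h => hyJ (map_cj_eq_iff.1 h.symm)
    have h1 : ⁅a, b'⁆ ∈ N := by
      refine Subgroup.mem_inf.2 ⟨hJ.commutator_mem_O hJ' hJne ((pLayerOf_le _) ha).1
        (mem_map_cj ((pLayerOf_le _) hb).1), ?_⟩
      exact commutator_le_self (L s) (commutator_mem_commutator (hEL ha)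
        (mul_mem (mul_mem (inv_mem (hK.le_L hy)) (hEL hb)) (hK.le_L hy)))
    set k := b⁻¹ * b' with hk
    have hkK : k ∈ K := by
      rw [hk, hb', show b⁻¹ * (y⁻¹ * b * y) = b⁻¹ * y⁻¹ * b * y by group]
      exact mul_mem (cj_mem_of_normalizer (hK.L_normalizes (hEL hb)) (inv_mem hy)) hy
    have hbn := hK.L_normalizes (hEL hb)
    have han := hK.L_normalizes (hEL ha)
    have h2 : b * ⁅a, k⁆ * b⁻¹ ∈ K := (mem_normalizer_iff.1 hbn _).1
      (mul_mem ((mem_normalizer_iff.1 han k).1 hkK) (inv_mem hkK))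
    have h3 : ⁅a, b⁆ = ⁅a, b'⁆ * (b * ⁅a, k⁆ * b⁻¹)⁻¹ := by
      rw [hk, commutatorElement_def, commutatorElement_def, commutatorElement_def]; group
    rw [h3]
    exact mul_mem (mem_sup_right h1) (mem_sup_left (inv_mem h2))
  obtain ⟨k, hk, n, hn, hkn⟩ := (Cfsg.Lib.Coprime.mem_sup_of_le_normalizer hNn).mp (hE hzE)
  obtain ⟨r, hr⟩ := odd_orderOf_of_mem (O_odd z) hn.1
  have hk' : k = z * n⁻¹ := eq_mul_inv_of_mul_eq hkn
  have : k ^ (2 * r + 1) = z := by
    rw [hk', ((mem_C.1 (O_le z hn.1)).symm.inv_right).mul_pow, inv_pow, ← hr, pow_orderOf_eq_one,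
      inv_one, mul_one, hr, pow_succ, pow_mul, pow_two, hzz, one_pow, one_mul]
  exact hne (hK.uniq z (this ▸ pow_mem hk _) hJ.two).symm

theorem sup_isPGroup_of_swap {y z d : G} (hy : IsPGroup 2 (zpowers y)) (hzz : z * z = 1)
    (hyz : Commute y z) (hdd : d * d = 1) (hdz : Commute d z) (hdy : d * y * d = y * z) :
    IsPGroup 2 (zpowers d ⊔ (zpowers z ⊔ zpowers y) : Subgroup G) := by
  haveI : Fact (Nat.Prime 2) := ⟨Nat.prime_two⟩
  have h1 : zpowers z ≤ normalizer (zpowers y : Set G) := by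
    refine zpowers_le.2 (Cfsg.Lib.ZStarApps.mem_normalizer_of_maps fun x hx => ?_)
    obtain ⟨l, rfl⟩ := mem_zpowers_iff.1 hx
    rw [← ((hyz.zpow_left l)).eq, mul_inv_cancel_right]
    exact zpow_mem (mem_zpowers y) l
  have hA := (isPGroup_zpowers_invol hzz).to_sup_of_normal_right' hy h1
  refine (isPGroup_zpowers_invol hdd).to_sup_of_normal_right' hA (zpowers_le.2 ?_)
  refine Cfsg.Lib.ZStarApps.mem_normalizer_of_maps fun x hx => ?_
  have : (zpowers z ⊔ zpowers y).map (MulAut.conj d).toMonoidHom ≤ zpowers z ⊔ zpowers y := by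
    rw [Subgroup.map_sup, MonoidHom.map_zpowers, MonoidHom.map_zpowers, sup_le_iff, zpowers_le,
      zpowers_le]
    refine ⟨?_, ?_⟩
    · show d * z * d⁻¹ ∈ _
      rw [hdz.eq, mul_inv_cancel_right]
      exact mem_sup_left (mem_zpowers z)
    · show d * y * d⁻¹ ∈ _
      rw [invol_inv hdd, hdy]
      exact mul_mem (mem_sup_right (mem_zpowers y)) (mem_sup_left (mem_zpowers z))
  exact this (mem_map_of_mem (MulAut.conj d).toMonoidHom hx)

/-- the data of the final configuration -/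
structure Config (z s : G) (J K : Subgroup G) (y h g d σ : G) : Prop where
  hJ : TC z J
  hK : TC s K
  hne : s ≠ z
  hzK : z ∈ normalizer (K : Set G)
  hcom : Commute z s
  hy : y ∈ K
  hys : y * y = s
  hyz : Commute y z
  hyJ : y ∉ normalizer (J : Set G)
  hsJ : s ∈ normalizer (J : Set G)
  hh : h ∈ J
  hh2 : h * h = z
  hhs : s * h * s = h⁻¹
  hd : d = h⁻¹ * (y⁻¹ * h * y)
  hhy : Commute h (y⁻¹ * h * y)
  hdd : d * d = 1
  hdy : d * y * d = y * z
  hdK : d ∉ normalizer (K : Set G)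
  hg : g ∈ K
  hg2 : g * g = s
  hgy : y⁻¹ * g * y = g⁻¹
  hgc : Commute g (d * g * d)
  hgy' : Commute g (d * y * d)
  hyg' : Commute y (d * g * d)
  hσ : σ = g⁻¹ * (d * g * d)

variable {y h g d σ : G}

theorem Config.dz (c : Config z s J K y h g d σ) : Commute d z := by
  have h1 : Commute h z := c.hJ.commute c.hh
  rw [c.hd]
  exact h1.inv_left.mul_left ((c.hyz.inv_left.mul_left h1).mul_left c.hyz)

theorem Config.ds (c : Config z s J K y h g d σ) : Commute d s := by
  have hss := c.hK.mul_self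
  have hys := c.hK.commute c.hy
  apply Commute.symm
  apply commute_of_cj
  rw [cj_apply, invol_inv hss]
  have h1 : s * (y⁻¹ * h * y) * s = (y⁻¹ * h * y)⁻¹ := by
    rw [show (y⁻¹ * h * y)⁻¹ = y⁻¹ * h⁻¹ * y by group, ← c.hhs,
      show s * (y⁻¹ * h * y) * s = (s * y⁻¹) * h * (y * s) by group, hys.eq, ← hys.inv_left.eq]
    group
  have h0 : s * h⁻¹ * s = h := by
    have h2 := congrArg (·⁻¹) c.hhs
    simp only [mul_inv_rev, inv_inv, invol_inv hss] at h2
    rwa [← mul_assoc] at h2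
  rw [c.hd, show s * (h⁻¹ * (y⁻¹ * h * y)) * s = (s * h⁻¹ * s) * (s * (y⁻¹ * h * y) * s) by
      rw [show s * h⁻¹ * s * (s * (y⁻¹ * h * y) * s) = s * h⁻¹ * (s * s) * (y⁻¹ * h * y) * s by group,
        hss]
      group,
    h1, h0]
  refine eq_of_mul_inv_eq_one ?_
  have h2 : (y⁻¹ * h * y) * (y⁻¹ * h * y) = z := by
    rw [show (y⁻¹ * h * y) * (y⁻¹ * h * y) = y⁻¹ * (h * h) * y by group, c.hh2, mul_assoc,
      ← c.hyz.eq, inv_mul_cancel_left]
  calc h * (y⁻¹ * h * y)⁻¹ * (h⁻¹ * (y⁻¹ * h * y))⁻¹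
      = h * ((y⁻¹ * h * y) * (y⁻¹ * h * y))⁻¹ * h := by group
    _ = h * z * h := by rw [h2, invol_inv c.hJ.mul_self]
    _ = (h * h) * z := by rw [mul_assoc, ← (c.hJ.commute c.hh).eq, ← mul_assoc]
    _ = 1 := by rw [c.hh2, c.hJ.mul_self]

theorem Config.gz (c : Config z s J K y h g d σ) : z * g * z = g⁻¹ := by
  have hzz := c.hJ.mul_self
  have hz : z = y⁻¹ * (d * y * d) := by rw [c.hdy, inv_mul_cancel_left]
  have h1 : y * g * y⁻¹ = g⁻¹ := by
    have h2 : (y⁻¹ * g * y)⁻¹ = g := by rw [c.hgy, inv_inv]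
    calc y * g * y⁻¹ = y * (y⁻¹ * g * y)⁻¹ * y⁻¹ := by rw [h2]
      _ = g⁻¹ := by group
  calc z * g * z = z⁻¹ * g * z := by rw [invol_inv hzz]
    _ = (d * y * d)⁻¹ * (y * g * y⁻¹) * (d * y * d) := by rw [hz]; group
    _ = (d * y * d)⁻¹ * (g⁻¹ * (d * y * d)) := by rw [h1]; group
    _ = g⁻¹ := by rw [c.hgy'.inv_left.eq, inv_mul_cancel_left]

theorem Config.basis (c : Config z s J K y h g d σ) : Basis z σ s d := by
  have hzz := c.hJ.mul_self
  have hss := c.hK.mul_self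
  have hdd := c.hdd
  have hgs := c.hK.commute c.hg
  have hds := c.ds
  have hdz := c.dz
  have hg' : (d * g * d) * (d * g * d) = s := by
    rw [show (d * g * d) * (d * g * d) = d * g * (d * d) * g * d by group, hdd,
      show d * g * 1 * g * d = d * (g * g) * d by group, c.hg2, hds.eq, mul_assoc, hdd, mul_one]
  have hσσ : σ * σ = 1 := by
    rw [c.hσ, c.hgc.inv_left.symm.mul_mul_mul_comm, ← mul_inv_rev, c.hg2, hg', inv_mul_cancel]
  have hσd : Commute σ d := by
    apply Commute.symm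
    apply commute_of_cj
    rw [cj_apply, invol_inv hdd, c.hσ]
    have : σ⁻¹ = σ := invol_inv hσσ
    rw [c.hσ] at this
    conv_rhs => rw [← this]
    have hinv : d * g⁻¹ * d = (d * g * d)⁻¹ := by simp only [mul_inv_rev, invol_inv hdd, mul_assoc]
    rw [show d * (g⁻¹ * (d * g * d)) * d = (d * g⁻¹ * d) * g * (d * d) by group, hdd, mul_one, hinv]
    group
  have hσz : Commute σ z := by
    apply Commute.symm
    apply commute_of_cj
    rw [cj_apply, invol_inv hzz, c.hσ]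
    have e1 : z * g⁻¹ * z = g := by
      calc z * g⁻¹ * z = z * (z * g * z) * z := by rw [c.gz]
        _ = (z * z) * g * (z * z) := by group
        _ = g := by rw [hzz]; group
    have e2 : z * (d * g * d) * z = (d * g * d)⁻¹ := by
      calc z * (d * g * d) * z = (z * d) * g * (d * z) := by group
        _ = (d * z) * g * (z * d) := congrArg₂ (fun a b => a * g * b) hdz.eq.symm hdz.eq
        _ = d * (z * g * z) * d := by group
        _ = _ := by rw [c.gz]; simp only [mul_inv_rev, invol_inv hdd, mul_assoc]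
    have : σ⁻¹ = σ := invol_inv hσσ
    rw [c.hσ] at this
    conv_rhs => rw [← this]
    calc z * (g⁻¹ * (d * g * d)) * z = (z * g⁻¹ * z) * (z * (d * g * d) * z) := by
          calc z * (g⁻¹ * (d * g * d)) * z = z * g⁻¹ * 1 * (d * g * d) * z := by group
            _ = z * g⁻¹ * (z * z) * (d * g * d) * z := by rw [hzz]
            _ = _ := by group
      _ = g * (d * g * d)⁻¹ := by rw [e1, e2]
      _ = _ := by rw [c.hgc.inv_right.eq]; group
  refine ⟨hzz, hσσ, hss, hdd, hσz.symm, c.hcom, hdz.symm, ?_, hσd, hds.symm⟩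
  rw [c.hσ]
  exact hgs.inv_left.mul_left ((hds.mul_left hgs).mul_left hds)

theorem Config.sigma_y (c : Config z s J K y h g d σ) : y⁻¹ * σ * y = σ * s := by
  have hgy : y⁻¹ * g⁻¹ * y = g := by
    rw [show y⁻¹ * g⁻¹ * y = (y⁻¹ * g * y)⁻¹ by group, c.hgy, inv_inv]
  have hg'y : y⁻¹ * (d * g * d) * y = d * g * d := by
    rw [mul_assoc, ← c.hyg'.eq, inv_mul_cancel_left]
  have hgs := c.hK.commute c.hg
  rw [c.hσ, show y⁻¹ * (g⁻¹ * (d * g * d)) * y = (y⁻¹ * g⁻¹ * y) * (y⁻¹ * (d * g * d) * y) by group,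
    hgy, hg'y, ← c.hσ, ← c.basis.σs.symm.eq, ← c.hg2, c.hσ]
  group

theorem Config.h_images (c : Config z s J K y h g d σ) :
    h⁻¹ * z * h = z ∧ h⁻¹ * s * h = s * z ∧ h⁻¹ * d * h = d := by
  have hss := c.hK.mul_self
  refine ⟨by rw [← cj_apply]; exact cj_eq_self (c.hJ.commute c.hh), ?_, ?_⟩
  · have h1 : s * h = h⁻¹ * s := by rw [← c.hhs, mul_assoc _ s s, hss, mul_one]
    rw [mul_assoc, h1, ← mul_assoc, ← mul_inv_rev, c.hh2, invol_inv c.hJ.mul_self, c.hcom.eq]
  · rw [c.hd, show h⁻¹ * (h⁻¹ * (y⁻¹ * h * y)) * h = h⁻¹ * h⁻¹ * ((y⁻¹ * h * y) * h) by group,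
      ← c.hhy.eq]
    group

/-- conjugation by `σ` on the element of order four -/
theorem Config.sigma_h (c : Config z s J K y h g d σ) :
    ∃ b : Bool, h⁻¹ * σ * h * (σ * d * pw z b) ∈ O z := by
  have B := c.basis
  have hzz := c.hJ.mul_self
  have hys := c.hK.commute c.hy
  have hhz : Commute h z := c.hJ.commute c.hh
  have hσσ := B.hσ
  have hσi : σ⁻¹ = σ := invol_inv hσσ
  set h' := y⁻¹ * h * y with hh'
  set J' := J.map (cj y) with hJ'd
  have hJ' : TC z J' := c.hJ.conj c.hyz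
  have hne : J ≠ J' := fun e => c.hyJ (map_cj_eq_iff.1 e.symm)
  have hh'J : h' ∈ J' := mem_map_cj c.hh
  have hh'2 : h' * h' = z := by
    rw [hh', show (y⁻¹ * h * y) * (y⁻¹ * h * y) = y⁻¹ * (h * h) * y by group, c.hh2, mul_assoc,
      ← c.hyz.eq, inv_mul_cancel_left]
  have hσz : Commute σ z := B.zσ.symm
  set Y : C z := ⟨y, mem_C.2 c.hyz⟩
  set H : C z := ⟨h, c.hJ.le c.hh⟩
  set H' : C z := ⟨h', hJ'.le hh'J⟩
  set Sg : C z := ⟨σ, mem_C.2 hσz⟩
  set Z : C z := ⟨z, self_mem_C z⟩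
  set A := Sg * H * Sg with hA
  set B' := Sg * H' * Sg with hB'
  have hd : h⁻¹ * h' = (σ * h * σ)⁻¹ * (σ * h' * σ) := by
    have h1 : σ * d * σ = d := by rw [B.σd.eq, mul_assoc, hσσ, mul_one]
    calc h⁻¹ * h' = d := c.hd.symm
      _ = σ * d * σ := h1.symm
      _ = σ * h⁻¹ * (σ * σ) * h' * σ := by rw [c.hd, hσσ, hh']; group
      _ = (σ * h * σ)⁻¹ * (σ * h' * σ) := by simp only [mul_inv_rev, hσi, mul_assoc]
  have hdq : (q z H)⁻¹ * q z H' = (q z A)⁻¹ * q z B' := by
    rw [← map_inv, ← map_inv, ← map_mul, ← map_mul]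
    exact congrArg _ (Subtype.ext hd)
  have hh4 : ∀ x : G, x * x = z → IsPGroup 2 (zpowers x) := fun x hx =>
    isPGroup_zpowers_of_sq (k := 2) (pow_four hx hzz)
  have hmemσ : ∀ (M : Subgroup G) (a : G), a ∈ M → σ * a * σ ∈ M.map (cj σ) := fun M a ha => by
    have := mem_map_cj (g := σ) ha
    rwa [hσi] at this
  have hJ'σ : TC z (J'.map (cj σ)) := hJ'.conj hσz
  have hJσ : TC z (J.map (cj σ)) := c.hJ.conj hσz
  have hcases : ∀ (k : G) (hk : k ∈ C z), k ∈ O z ∨ z * k ∈ O z →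
      q z ⟨k, hk⟩ = 1 ∨ q z ⟨k, hk⟩ = q z Z := by
    intro k hk h
    rcases h with h | h
    · exact Or.inl ((mem_O_iff (x := (⟨k, hk⟩ : C z))).1 h)
    · right
      have h1 := (mem_O_iff (x := Z * ⟨k, hk⟩)).1 h
      rw [map_mul] at h1
      have hZZ : q z Z * q z Z = 1 := by
        rw [← map_mul, show Z * Z = 1 from Subtype.ext hzz, map_one]
      rw [eq_inv_of_mul_eq_one_right h1, invol_inv hZZ]
  by_cases hσJ : σ ∈ normalizer (J : Set G)
  · exfalso
    have hσy : y * σ = σ * y * s := by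
      have h1 := c.sigma_y
      have hinv : σ * y = y * σ * s := by
        rw [show y * σ * s = y * (σ * s) by group, ← h1]; group
      rw [hinv, mul_assoc (y * σ) s s, c.hK.mul_self, mul_one]
    have hσJ' : J'.map (cj σ) = J' := by
      rw [hJ'd, map_cj_cj, hσy, ← map_cj_cj, ← map_cj_cj, map_cj_eq_iff.2 hσJ, map_cj_cj, hys.eq,
        ← map_cj_cj, map_cj_eq_iff.2 c.hsJ]
    have hAJ : σ * h * σ ∈ J := map_cj_eq_iff.2 hσJ ▸ hmemσ J h c.hh
    have hB'J : σ * h' * σ ∈ J' := hσJ' ▸ hmemσ J' h' hh'J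
    have heq : q z (A * H⁻¹) = q z (B' * H'⁻¹) := by
      rw [map_mul (q z) A H⁻¹, map_mul (q z) B' H'⁻¹, map_inv, map_inv]
      calc q z A * (q z H)⁻¹ = q z A * ((q z H)⁻¹ * q z H') * (q z H')⁻¹ := by group
        _ = q z B' * (q z H')⁻¹ := by rw [hdq]; group
    have hint := c.hJ.inter hJ' hne (mul_mem hAJ (inv_mem c.hh)) (mul_mem hB'J (inv_mem hh'J))
      ((q_eq_iff (a := A * H⁻¹) (b := B' * H'⁻¹)).1 heq)
    obtain ⟨ζ, hζ2, hζc, hAζ⟩ : ∃ ζ, ζ * ζ = 1 ∧ (∀ x : C z, Commute ζ (q z x)) ∧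
        q z (A * H⁻¹) = ζ := by
      refine ⟨_, ?_, ?_, rfl⟩
      · rcases hcases _ (A * H⁻¹).2 hint with e | e <;>
          (have e' : q z (A * H⁻¹) = _ := e; rw [e'])
        · rw [one_mul]
        · rw [← map_mul, show Z * Z = 1 from Subtype.ext hzz, map_one]
      · intro x
        rcases hcases _ (A * H⁻¹).2 hint with e | e <;>
          (have e' : q z (A * H⁻¹) = _ := e; rw [e'])
        · exact Commute.one_left _
        · exact (show Commute Z x from Subtype.ext (mem_C.1 x.2).eq.symm).map _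
    have hA' : q z A = ζ * q z H := by rw [← hAζ, map_mul (q z) A H⁻¹, map_inv, inv_mul_cancel_right]
    have hB : q z B' = ζ * q z H' := by rw [← hAζ, heq, map_mul (q z) B' H'⁻¹, map_inv, inv_mul_cancel_right]
    have hYA : q z (Y⁻¹ * A * Y) = q z B' ⁻¹ := by
      refine congrArg _ (Subtype.ext ?_)
      show y⁻¹ * (σ * h * σ) * y = (σ * h' * σ)⁻¹
      have h1 : s * h' * s = h'⁻¹ := by
        rw [hh', show (y⁻¹ * h * y)⁻¹ = y⁻¹ * h⁻¹ * y by group, ← c.hhs,
          show s * (y⁻¹ * h * y) * s = (s * y⁻¹) * h * (y * s) by group, hys.eq, ← hys.inv_left.eq]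
        group
      calc y⁻¹ * (σ * h * σ) * y = (y⁻¹ * σ * y) * h' * (y⁻¹ * σ * y) := by rw [hh']; group
        _ = σ * s * h' * (σ * s) := by rw [c.sigma_y]
        _ = σ * s * h' * (s * σ) := congrArg (fun a => σ * s * h' * a) B.σs.eq
        _ = σ * (s * h' * s) * σ := by group
        _ = (σ * h' * σ)⁻¹ := by rw [h1]; simp only [mul_inv_rev, hσi, mul_assoc]
    have hYH : (q z Y)⁻¹ * q z H * q z Y = q z H' := by
      rw [← map_inv, ← map_mul, ← map_mul]; rfl
    rw [map_mul (q z) (Y⁻¹ * A) Y, map_mul (q z) Y⁻¹ A, map_inv, map_inv, hA', hB, ← mul_assoc, ← (hζc Y).inv_right.eq,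
      mul_assoc ζ, mul_assoc ζ, hYH, eq_inv_iff_mul_eq_one,
      (hζc H').symm.mul_mul_mul_comm, hζ2, one_mul, ← map_mul] at hYA
    exact c.hJ.ne_one (hh'2 ▸ eq_one_of_two_odd (O_odd z) ((mem_O_iff (x := H' * H')).2 hYA)
      (hh'2.symm ▸ isPGroup_zpowers_invol hzz))
  · have hJ2 : J'.map (cj σ) = J := by
      by_contra hn
      have hn1 : J.map (cj σ) ≠ J := fun e => hσJ (map_cj_eq_iff.1 e)
      have hcen : ∀ a ∈ J, ⁅h, a⁆ ∈ O z := by
        intro a ha
        set A' : C z := ⟨a, c.hJ.le ha⟩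
        have c1 : Commute (q z H') (q z A') :=
          commute_q_iff.2 (hJ'.commutator_mem_O c.hJ hne.symm hh'J ha)
        have c2 : Commute (q z A) (q z A') :=
          commute_q_iff.2 (hJσ.commutator_mem_O c.hJ hn1 (hmemσ J h c.hh) ha)
        have c3 : Commute (q z B') (q z A') :=
          commute_q_iff.2 (hJ'σ.commutator_mem_O c.hJ hn (hmemσ J' h' hh'J) ha)
        have hH : q z H = q z H' * ((q z B')⁻¹ * q z A) := by
          have : (q z B')⁻¹ * q z A = ((q z H)⁻¹ * q z H')⁻¹ := by rw [hdq]; group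
          rw [this]; group
        refine (commute_q_iff (a := H) (b := A')).1 ?_
        rw [hH]
        exact c1.mul_left (c3.inv_left.mul_left c2)
      rcases c.hJ.two_elt_central c.hh (hh4 h c.hh2) hcen with e | e
      · exact c.hJ.ne_one (by rw [← c.hh2, e, one_mul])
      · exact c.hJ.ne_one (by rw [← c.hh2, e, hzz])
    have hJ1 : J.map (cj σ) = J' := by
      conv_lhs => rw [← hJ2, map_cj_cj, hσσ, map_cj_one]
    have hBJ : σ * h' * σ ∈ J := hJ2 ▸ hmemσ J' h' hh'J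
    have hAJ : σ * h * σ ∈ J' := hJ1 ▸ hmemσ J h c.hh
    have cAH : Commute (q z A) (q z H) :=
      commute_q_iff.2 (hJ'.commutator_mem_O c.hJ hne.symm hAJ c.hh)
    have cHH' : Commute (q z H) (q z H') := commute_q_iff.2 (c.hJ.commutator_mem_O hJ' hne c.hh hh'J)
    have cAB : Commute (q z A) (q z B') :=
      commute_q_iff.2 (hJ'.commutator_mem_O c.hJ hne.symm hAJ hBJ)
    have heq : q z (H * B') = q z (H' * A) := by
      rw [map_mul, map_mul]
      calc q z H * q z B' = q z H * (q z A * ((q z A)⁻¹ * q z B')) := by group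
        _ = (q z H * q z A) * ((q z H)⁻¹ * q z H') := by rw [hdq]; group
        _ = q z A * q z H * ((q z H)⁻¹ * q z H') := by rw [cAH.eq]
        _ = q z A * q z H' := by group
        _ = q z H' * q z A := by
            have hA2 : Commute (q z A) (q z H') := by
              have : q z H' = q z H * ((q z A)⁻¹ * q z B') := by rw [← hdq]; group
              rw [this]
              exact cAH.mul_right ((Commute.refl _).inv_right.mul_right cAB)
            exact hA2.eq
    have hint := c.hJ.inter hJ' hne (mul_mem c.hh hBJ) (mul_mem hh'J hAJ)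
      ((q_eq_iff (a := H * B') (b := H' * A)).1 heq)
    have hH'2 : q z H' * q z H' = q z Z := by
      rw [← map_mul, show H' * H' = Z from Subtype.ext hh'2]
    have hZZ : q z Z * q z Z = 1 := by
      rw [← map_mul, show Z * Z = 1 from Subtype.ext hzz, map_one]
    obtain ⟨b, hb⟩ : ∃ b : Bool, q z A = q z H' * pw (q z Z) b := by
      rcases hcases _ (H * B').2 hint with e | e
      · have e' : q z (H' * A) = 1 := heq.symm.trans e
        refine ⟨true, ?_⟩
        rw [map_mul] at e'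
        rw [eq_inv_of_mul_eq_one_right e']
        refine inv_eq_of_mul_eq_one_right ?_
        show q z H' * (q z H' * q z Z) = 1
        rw [← mul_assoc, hH'2, hZZ]
      · have e' : q z (H' * A) = q z Z := heq.symm.trans e
        refine ⟨false, ?_⟩
        rw [map_mul, ← hH'2] at e'
        rw [mul_left_cancel e']
        simp [pw]
    refine ⟨b, ?_⟩
    set D : C z := ⟨d, mem_C.2 c.dz⟩
    have hdm : σ * d * pw z b ∈ C z :=
      mul_mem (mul_mem (mem_C.2 hσz) (mem_C.2 c.dz)) (pw_mem (self_mem_C z) b)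
    refine mul_mem_O_of_q (a := H⁻¹ * Sg * H) (b := ⟨σ * d * pw z b, hdm⟩) ?_ ?_
    · have h1 : q z (H⁻¹ * Sg * H) = (q z H)⁻¹ * q z A * q z Sg := by
        rw [← map_inv, ← map_mul, ← map_mul]
        refine congrArg _ (Subtype.ext ?_)
        show h⁻¹ * σ * h = h⁻¹ * (σ * h * σ) * σ
        calc h⁻¹ * σ * h = h⁻¹ * σ * h * (σ * σ) := by rw [hσσ, mul_one]
          _ = _ := by group
      have h2 : (q z H)⁻¹ * q z H' = q z D := by
        rw [← map_inv, ← map_mul]
        exact congrArg _ (Subtype.ext c.hd.symm)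
      rw [h1, hb, ← mul_assoc, h2]
      cases b
      · simp only [pw, cond_false, mul_one]
        rw [← map_mul]
        refine congrArg _ (Subtype.ext ?_)
        show d * σ = σ * d
        exact B.σd.eq.symm
      · simp only [pw, cond_true]
        rw [← map_mul, ← map_mul]
        refine congrArg _ (Subtype.ext ?_)
        show d * z * σ = σ * d * z
        calc d * z * σ = σ * (d * z) := (B.σd.symm.mul_left B.zσ).eq
          _ = σ * d * z := (mul_assoc σ d z).symm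
    · show σ * d * pw z b * (σ * d * pw z b) = 1
      have h1 : Commute (pw z b) (σ * d) := by
        cases b
        · simp [pw]
        · simpa [pw] using B.zσ.mul_right B.zd
      rw [h1.mul_mul_mul_comm, B.σd.symm.mul_mul_mul_comm, hσσ, B.hd, one_mul, ← pw_xor hzz]
      simp [pw]

/-- the operator of `h` -/
theorem Config.exists_Wh (c : Config z s J K y h g d σ) :
    ∃ (W : G) (b : Bool), Induces z σ s d W (fh b) := by
  obtain ⟨b, hb⟩ := c.sigma_h
  have B := c.basis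
  obtain ⟨hz, hs, hd⟩ := c.h_images
  set a := h⁻¹ * σ * h with ha
  have haa : a * a = 1 := by
    rw [ha, show h⁻¹ * σ * h * (h⁻¹ * σ * h) = h⁻¹ * (σ * σ) * h by group, B.hσ]; group
  have hpz : ∀ x, Commute x z → Commute x (pw z b) := fun x hx => by cases b <;> simp [pw, hx]
  set t := σ * d * pw z b
  have htt : t * t = 1 := by
    rw [((hpz σ B.zσ.symm).mul_left (hpz d B.zd.symm)).symm.mul_mul_mul_comm,
      B.σd.symm.mul_mul_mul_comm, B.hσ, B.hd, one_mul, ← pw_xor B.hz]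
    simp [pw]
  obtain ⟨o, ho, hoa, hocomm⟩ := adjust haa htt hb
  have him : ∀ x, Commute x σ → Commute (h⁻¹ * x * h) a := fun x hx => by
    have := hx.map (cj h)
    rwa [cj_apply, cj_apply] at this
  have czt : Commute z t := (B.zσ.mul_right B.zd).mul_right (hpz z (Commute.refl z))
  have cdt : Commute d t := (B.σd.symm.mul_right (Commute.refl d)).mul_right (hpz d B.zd.symm)
  have cst : Commute s t := (B.σs.symm.mul_right B.sd).mul_right (hpz s B.zs.symm)
  have cz : Commute z o := hocomm z (hz ▸ him z B.zσ) czt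
  have cd : Commute d o := hocomm d (hd ▸ him d B.σd.symm) cdt
  have cs : Commute s o := by
    refine hocomm s ?_ cst
    have h1 := hs ▸ him s B.σs.symm
    have h2 := h1.mul_left (hz ▸ him z B.zσ)
    rwa [mul_assoc, B.hz, mul_one] at h2
  refine ⟨h * o, b, induces_h B ?_ ?_ ?_ ?_⟩
  · rw [cj_mul, cj_apply h z, hz]; exact cj_eq_self cz.symm
  · rw [cj_mul, cj_apply h σ, cj_apply o]; exact hoa
  · rw [cj_mul, cj_apply h s, hs, map_mul, cj_eq_self cs.symm, cj_eq_self cz.symm]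
  · rw [cj_mul, cj_apply h d, hd]; exact cj_eq_self cd.symm

/-- the operator of `e` -/
theorem Config.exists_We (c : Config z s J K y h g d σ) {n : G} (hn : n ∈ K)
    (hny : n⁻¹ * y * n = g ∨ n⁻¹ * y * n = g * s)
    (hng : n⁻¹ * g * n = y * g ∨ n⁻¹ * g * n = y * g * s) :
    ∃ W : G, Induces z σ s d W fe := by
  have B := c.basis
  have hdd := B.hd
  have hss := B.hs
  have hdi : d⁻¹ = d := invol_inv hdd
  have hds : Commute d s := B.sd.symm
  have hK' : TC s (K.map (cj d)) := c.hK.conj hds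
  have hKne : K ≠ K.map (cj d) := fun e => c.hdK (map_cj_eq_iff.1 e.symm)
  have hK'mem : ∀ a ∈ K, d * a * d ∈ K.map (cj d) := fun a ha => by
    have := mem_map_cj (g := d) ha
    rwa [hdi] at this
  set N : C s := ⟨n, c.hK.le hn⟩
  set N' : C s := ⟨d * n * d, hK'.le (hK'mem n hn)⟩
  set E := N * N' with hE
  have key : ∀ a b, a ∈ K → b ∈ K → (n⁻¹ * a * n = b ∨ n⁻¹ * a * n = b * s) →
      ∀ x x' : C s, (x : G) = a⁻¹ * (d * a * d) → (x' : G) = b⁻¹ * (d * b * d) →
      q s (E⁻¹ * x * E) = q s x' := by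
    intro a b ha hb hab x x' hx hx'
    set A : C s := ⟨a, c.hK.le ha⟩
    set A' : C s := ⟨d * a * d, hK'.le (hK'mem a ha)⟩
    have hxA : x = A⁻¹ * A' := Subtype.ext hx
    have c1 : Commute (q s A') (q s N) :=
      (commute_q_iff.2 (c.hK.commutator_mem_O hK' hKne hn (hK'mem a ha))).symm
    set An : C s := N⁻¹ * A * N
    set An' : C s := N'⁻¹ * A' * N'
    have c2 : Commute (q s An⁻¹) (q s N') :=
      commute_q_iff.2 (c.hK.commutator_mem_O hK' hKne
        (inv_mem (mul_mem (mul_mem (inv_mem hn) ha) hn)) (hK'mem n hn))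
    have h1 : q s (E⁻¹ * x * E) = q s (An⁻¹ * An') := by
      rw [hxA]
      simp only [hE, An, An', map_mul, map_inv, mul_inv_rev, inv_inv] at c2 ⊢
      calc (q s N')⁻¹ * (q s N)⁻¹ * ((q s A)⁻¹ * q s A') * (q s N * q s N')
          = (q s N')⁻¹ * ((q s N)⁻¹ * (q s A)⁻¹) * (q s A' * q s N) * q s N' := by group
        _ = (q s N')⁻¹ * ((q s N)⁻¹ * ((q s A)⁻¹ * q s N)) * (q s A' * q s N') := by rw [c1.eq]; group
        _ = ((q s N)⁻¹ * ((q s A)⁻¹ * q s N)) * (q s N')⁻¹ * (q s A' * q s N') := by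
            rw [c2.symm.inv_left.eq]
        _ = _ := by group
    rw [h1]
    refine congrArg _ (Subtype.ext ?_)
    show (n⁻¹ * a * n)⁻¹ * ((d * n * d)⁻¹ * (d * a * d) * (d * n * d)) = (x' : G)
    have e1 : (d * n * d)⁻¹ * (d * a * d) * (d * n * d) = d * (n⁻¹ * a * n) * d := by
      calc (d * n * d)⁻¹ * (d * a * d) * (d * n * d)
          = d⁻¹ * n⁻¹ * a * (d * d) * n * d := by group
        _ = d * (n⁻¹ * a * n) * d := by rw [hdd, hdi]; group
    rw [e1, hx']
    rcases hab with e | e <;> rw [e]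
    have hbs : Commute b s := c.hK.commute hb
    calc (b * s)⁻¹ * (d * (b * s) * d) = b⁻¹ * (s⁻¹ * (d * b * (s * d))) := by
          rw [show (b * s)⁻¹ = s⁻¹ * b⁻¹ by group, (hbs.inv_inv).eq.symm]; group
      _ = b⁻¹ * (s⁻¹ * (d * b * (d * s))) := by rw [hds.eq]
      _ = b⁻¹ * (s⁻¹ * ((d * b * d) * s)) := by group
      _ = b⁻¹ * (d * b * d) := by
          rw [((hds.mul_left hbs).mul_left hds).eq, inv_mul_cancel_left]
  have hσC : σ ∈ C s := mem_C.2 B.σs
  set Z' : C s := ⟨z, mem_C.2 B.zs⟩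
  set S' : C s := ⟨σ, hσC⟩
  set D' : C s := ⟨d, mem_C.2 hds⟩
  set T' : C s := ⟨z * σ * s, mul_mem (mul_mem (mem_C.2 B.zs) hσC) (self_mem_C s)⟩
  have hyn : z = y⁻¹ * (d * y * d) := by rw [c.hdy, inv_mul_cancel_left]
  have hEz : q s (E⁻¹ * Z' * E) = q s S' := key y g c.hy c.hg hny Z' S' hyn c.hσ
  have hyg : z * σ * s = (y * g)⁻¹ * (d * (y * g) * d) := by
    have e1 : z * g⁻¹ * z = g := by
      calc z * g⁻¹ * z = z * (z * g * z) * z := by rw [c.gz]
        _ = (z * z) * g * (z * z) := by group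
        _ = g := by rw [B.hz]; group
    calc z * σ * s = z * (s * σ) := by rw [mul_assoc, B.σs.eq]
      _ = z * (g * g * (g⁻¹ * (d * g * d))) := by rw [c.hg2, c.hσ]
      _ = z * g * (d * g * d) := by group
      _ = z * (z * g⁻¹ * z) * (d * g * d) := by rw [e1]
      _ = (z * z) * g⁻¹ * z * (d * g * d) := by group
      _ = g⁻¹ * (y⁻¹ * (d * y * d)) * (d * g * d) := by rw [B.hz, one_mul, ← hyn]
      _ = g⁻¹ * y⁻¹ * (d * y * (d * d) * g * d) := by group
      _ = _ := by rw [hdd]; group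
  have hEσ : q s (E⁻¹ * S' * E) = q s T' := key g (y * g) c.hg (mul_mem c.hy c.hg) hng S' T' c.hσ hyg
  have hEd : q s (E⁻¹ * D' * E) = q s D' := by
    have cNN' : Commute (q s N) (q s N') :=
      commute_q_iff.2 (c.hK.commutator_mem_O hK' hKne hn (hK'mem n hn))
    have e1 : q s D' * q s E * q s D' = q s (N' * N) := by
      rw [← map_mul, ← map_mul]
      refine congrArg _ (Subtype.ext ?_)
      show d * (n * (d * n * d)) * d = (d * n * d) * n
      calc d * (n * (d * n * d)) * d = d * n * d * n * (d * d) := by group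
        _ = _ := by rw [hdd, mul_one]
    have e2 : q s D' * q s D' = 1 := by
      rw [← map_mul, show D' * D' = 1 from Subtype.ext hdd, map_one]
    rw [map_mul (q s) N' N, ← cNN'.eq, ← map_mul (q s) N N', ← hE] at e1
    rw [map_mul, map_mul, map_inv, mul_assoc, inv_mul_eq_iff_eq_mul]
    conv_rhs => rw [← e1]
    rw [mul_assoc _ (q s D') (q s D'), e2, mul_one]
  -- adjustments
  set e₀ : G := (E : G) with he₀
  have he₀s : Commute e₀ s := mem_C.1 E.2
  have inv2 : ∀ {x e : G}, x * x = 1 → cj e x * cj e x = 1 := fun {x e} hx => by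
    rw [← map_mul, hx, map_one]
  obtain ⟨c1, hc1, hc1e, hc1c⟩ := adjust (inv2 (e := e₀) B.hz) B.hσ (by
    rw [cj_apply]; exact mul_mem_O_of_q (a := E⁻¹ * Z' * E) (b := S') hEz B.hσ)
  set e₁ := e₀ * c1
  have h1z : cj e₁ z = σ := by rw [cj_mul, cj_apply c1]; exact hc1e
  have h1s : cj e₁ s = s := by
    rw [cj_mul, cj_eq_self he₀s]
    refine cj_eq_self (hc1c s ?_ B.σs.symm).symm
    have := B.zs.symm.map (cj e₀)
    rwa [cj_eq_self he₀s] at this
  have hE1 : q s (⟨e₁, mem_C.2 (he₀s.mul_left (mem_C.1 (O_le s hc1)))⟩ : C s) = q s E :=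
    (congrArg _ (Subtype.ext rfl)).trans (q_mul_O (a := E) hc1)
  set E₁ : C s := ⟨e₁, mem_C.2 (he₀s.mul_left (mem_C.1 (O_le s hc1)))⟩
  obtain ⟨c2, hc2, hc2e, hc2c⟩ := adjust (inv2 (e := e₁) B.hσ)
    (show z * σ * s * (z * σ * s) = 1 by
      rw [(B.zs.mul_left B.σs).symm.mul_mul_mul_comm, B.zσ.symm.mul_mul_mul_comm, B.hz, B.hσ, hss,
        one_mul, one_mul]) (by
    rw [cj_apply]
    refine mul_mem_O_of_q (a := E₁⁻¹ * S' * E₁) (b := T') ?_ ?_
    · rw [map_mul, map_mul, map_inv, hE1, ← map_inv, ← map_mul, ← map_mul]; exact hEσ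
    · show z * σ * s * (z * σ * s) = 1
      rw [(B.zs.mul_left B.σs).symm.mul_mul_mul_comm, B.zσ.symm.mul_mul_mul_comm, B.hz, B.hσ, hss,
        one_mul, one_mul])
  have cσT : Commute σ (z * σ * s) := (B.zσ.symm.mul_right (Commute.refl σ)).mul_right B.σs
  have csT : Commute s (z * σ * s) := (B.zs.symm.mul_right B.σs.symm).mul_right (Commute.refl s)
  have cσa : Commute σ (cj e₁ σ) := by
    have := B.zσ.map (cj e₁)
    rwa [h1z] at this
  have csa : Commute s (cj e₁ σ) := by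
    have := B.σs.symm.map (cj e₁)
    rwa [h1s] at this
  set e₂ := e₁ * c2
  have h2z : cj e₂ z = σ := by rw [cj_mul, h1z]; exact cj_eq_self (hc2c σ cσa cσT).symm
  have h2s : cj e₂ s = s := by rw [cj_mul, h1s]; exact cj_eq_self (hc2c s csa csT).symm
  have h2σ : cj e₂ σ = z * σ * s := by rw [cj_mul, cj_apply c2]; exact hc2e
  have he₂C : e₂ ∈ C s := mul_mem E₁.2 (O_le s hc2)
  have hE2 : q s (⟨e₂, he₂C⟩ : C s) = q s E :=
    ((congrArg _ (Subtype.ext rfl)).trans (q_mul_O (a := E₁) hc2)).trans hE1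
  obtain ⟨c3, hc3, hc3e, hc3c⟩ := adjust (inv2 (e := e₂) hdd) hdd (by
    rw [cj_apply]
    refine mul_mem_O_of_q (a := (⟨e₂, he₂C⟩ : C s)⁻¹ * D' * ⟨e₂, he₂C⟩) (b := D') ?_ hdd
    rw [map_mul, map_mul, map_inv, hE2, ← map_inv, ← map_mul, ← map_mul]; exact hEd)
  refine ⟨e₂ * c3, induces_e B ?_ ?_ ?_ ?_⟩
  · rw [cj_mul, h2z]
    refine cj_eq_self (hc3c σ ?_ B.σd).symm
    have := B.zd.map (cj e₂)
    rwa [h2z] at this
  · rw [cj_mul, h2σ]
    refine cj_eq_self (hc3c _ ?_ ((B.zd.mul_left B.σd).mul_left B.sd)).symm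
    have := B.σd.map (cj e₂)
    rwa [h2σ] at this
  · rw [cj_mul, h2s]
    refine cj_eq_self (hc3c s ?_ B.sd).symm
    have := B.sd.map (cj e₂)
    rwa [h2s] at this
  · rw [cj_mul, cj_apply c3]; exact hc3e

theorem Config.false (c : Config z s J K y h g d σ) {n : G} (hn : n ∈ K)
    (hny : n⁻¹ * y * n = g ∨ n⁻¹ * y * n = g * s)
    (hng : n⁻¹ * g * n = y * g ∨ n⁻¹ * g * n = y * g * s) : False := by
  have B := c.basis
  obtain ⟨Wh, b, hWh⟩ := c.exists_Wh
  obtain ⟨We, hWe⟩ := c.exists_We hn hny hng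
  obtain ⟨W, v, hWs, hWσ, hv⟩ := exists_word B hWh hWe
  have hWC : W ∈ C s := mem_C.2 (commute_of_cj hWs)
  have hσL : σ ∈ L s := by
    have hg' : d * g * d ∈ K.map (cj d) := by
      have := mem_map_cj (g := d) c.hg
      rwa [invol_inv B.hd] at this
    rw [c.hσ]
    exact mul_mem (inv_mem (c.hK.le_L c.hg)) ((c.hK.conj B.sd.symm).le_L hg')
  have h1 : cj W σ ∈ L s := by
    rw [cj_apply]
    exact cj_mem_of_normalizer (C_le_normalizer_L s hWC) hσL
  have h2 : ev z σ s d v ∈ normalizer (K : Set G) := hWσ ▸ c.hK.L_normalizes h1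
  apply c.hdK
  rw [ev, hv] at h2
  refine (Subgroup.mul_mem_cancel_left _ ?_).1 (show pw z v.1 * pw σ v.2.1 * pw s v.2.2.1 * d ∈ _ from h2)
  exact mul_mem (mul_mem (pw_mem c.hzK _) (pw_mem (c.hK.L_normalizes hσL) _))
    (pw_mem (le_normalizer c.hK.mem) _)

/-- the case of elements of order four -/
theorem part_one_small (hJ : TC z J) (hK : TC s K) {y : G} (hy : y ∈ K) (hys : y * y = s)
    (hyz : Commute y z) (hne : s ≠ z) (hzK : z ∈ normalizer (K : Set G))
    (hsJ : s ∈ normalizer (J : Set G)) (hyJ : y ∉ normalizer (J : Set G)) : False := by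
  haveI : Fact (Nat.Prime 2) := ⟨Nat.prime_two⟩
  have hss := hK.mul_self
  have hzz := hJ.mul_self
  have hcom : Commute z s := commute_of_normalizes hzz hK hzK
  have hy2 : IsPGroup 2 (zpowers y) := isPGroup_zpowers_of_sq (k := 2) (pow_four hys hss)
  obtain ⟨P, hP, hyP⟩ := exists_isSyl (H := C z) hy2 (zpowers_le.2 (mem_C.2 hyz))
  have hyP' : y ∈ P := hyP (mem_zpowers y)
  have hS := IsSyl.inf hJ hP
  have hsP : s ∈ P := hys ▸ mul_mem hyP' hyP'
  by_cases hc : ∀ a ∈ P ⊓ J, Commute a s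
  · exact part_one_centralized hJ hK hy hyz hne hsJ hcom hyJ hS hc
  obtain ⟨A, qS⟩ := hJ.exists_qs hS
  have hsS : s ∈ normalizer ((P ⊓ J : Subgroup G) : Set G) :=
    Cfsg.Lib.ZStarApps.mem_normalizer_of_maps fun a ha => Subgroup.mem_inf.2
      ⟨mul_mem (mul_mem hsP ha.1) (inv_mem hsP), (mem_normalizer_iff.1 hsJ a).1 ha.2⟩
  push Not at hc
  obtain ⟨a, ha, hac⟩ := hc
  obtain ⟨h, hhS, hh2, hhs⟩ := qS.exists_inverted hss hsS hcom.symm ⟨a, ha, fun e => hac e.symm⟩
  have hJ' : TC z (J.map (cj y)) := hJ.conj hyz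
  have hJne : J ≠ J.map (cj y) := fun e => hyJ (map_cj_eq_iff.1 e.symm)
  have hhy : Commute h (y⁻¹ * h * y) :=
    commute_exact hJ hJ' hJne hP.2.1 hhS.2 (mem_map_cj hhS.2) hhS.1 (conj_mem_of_mem hhS.1 hyP')
  set h' := y⁻¹ * h * y with hh'
  set d := h⁻¹ * h' with hd
  have hh'2 : h' * h' = z := by
    rw [hh', show (y⁻¹ * h * y) * (y⁻¹ * h * y) = y⁻¹ * (h * h) * y by group, hh2, mul_assoc,
      ← hyz.eq, inv_mul_cancel_left]
  have hdd : d * d = 1 := by
    rw [hd, hhy.inv_left.symm.mul_mul_mul_comm, ← mul_inv_rev, hh2, hh'2, inv_mul_cancel]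
  have hhz : Commute h z := hJ.commute hhS.2
  have hdz : Commute d z := hhz.inv_left.mul_left ((hyz.inv_left.mul_left hhz).mul_left hyz)
  have hyd : y⁻¹ * d * y = d * z := by
    have e1 : y⁻¹ * h' * y = h⁻¹ := by
      rw [hh', show y⁻¹ * (y⁻¹ * h * y) * y = (y * y)⁻¹ * h * (y * y) by group, hys, invol_inv hss,
        hhs]
    have e2 : y⁻¹ * h⁻¹ * y = h'⁻¹ := by rw [hh']; group
    rw [hd, show y⁻¹ * (h⁻¹ * h') * y = (y⁻¹ * h⁻¹ * y) * (y⁻¹ * h' * y) by group, e1, e2,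
      hhy.inv_inv.symm.eq, mul_assoc h⁻¹ h' z, ← hh'2]
    congr 1
    refine inv_eq_of_mul_eq_one_right ?_
    rw [← mul_assoc, hh'2, hzz]
  have hdy : d * y * d = y * z := by
    have h1 : d * y = y * (d * z) := by rw [← hyd]; group
    rw [h1, mul_assoc y, mul_assoc d, ← hdz.eq, ← mul_assoc d, hdd, one_mul]
  have hdK : d ∉ normalizer (K : Set G) := by
    intro hn
    have h1 : y * z ∈ K := by
      rw [← hdy]
      have := cj_mem_of_normalizer hn hy
      rwa [invol_inv hdd] at this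
    have h2 : z ∈ K := by simpa using mul_mem (inv_mem hy) h1
    exact hne (hK.uniq z h2 hJ.two).symm
  have hds : Commute d s := by
    have hd2 : Commute d (y * y) := by
      refine (commute_of_cj ?_).symm
      rw [cj_mul, cj_apply y d, hyd, map_mul, cj_apply y d, hyd, cj_eq_self hyz, mul_assoc, hzz,
        mul_one]
    rwa [hys] at hd2
  obtain ⟨P', hP', hle⟩ := exists_isSyl (H := C s) (sup_isPGroup_of_swap hy2 hzz hyz hdd hdz hdy)
    (sup_le (zpowers_le.2 (mem_C.2 hds)) (sup_le (zpowers_le.2 (mem_C.2 hcom))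
      (zpowers_le.2 (hK.le hy))))
  have hdP : d ∈ P' := hle (mem_sup_left (mem_zpowers d))
  have hyP'' : y ∈ P' := hle (mem_sup_right (mem_sup_right (mem_zpowers y)))
  have hT := IsSyl.inf hK hP'
  obtain ⟨B, qT⟩ := hK.exists_qs hT
  obtain ⟨g, hgT, hg2, hgy⟩ := qT.exists_partner (Subgroup.mem_inf.2 ⟨hyP'', hy⟩) hys
  have hK' : TC s (K.map (cj d)) := hK.conj hds
  have hKne : K ≠ K.map (cj d) := fun e => hdK (map_cj_eq_iff.1 e.symm)
  have hmem : ∀ a ∈ P' ⊓ K, d * a * d ∈ P' ∧ d * a * d ∈ K.map (cj d) := fun a ha =>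
    ⟨mul_mem (mul_mem hdP ha.1) hdP, by
      have := mem_map_cj (g := d) (Subgroup.mem_inf.1 ha).2
      rwa [invol_inv hdd] at this⟩
  have hcomm : ∀ a b, a ∈ P' ⊓ K → b ∈ P' ⊓ K → Commute a (d * b * d) := fun a b ha hb =>
    commute_exact hK hK' hKne hP'.2.1 ha.2 (hmem b hb).2 ha.1 (hmem b hb).1
  have hyT : y ∈ P' ⊓ K := Subgroup.mem_inf.2 ⟨hyP'', hy⟩
  have c : Config z s J K y h g d (g⁻¹ * (d * g * d)) :=
    ⟨hJ, hK, hne, hzK, hcom, hy, hys, hyz, hyJ, hsJ, hhS.2, hh2, hhs, hd, hhy, hdd, hdy, hdK, hgT.2,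
      hg2, hgy, hcomm g g hgT hgT, hcomm g y hgT hyT, hcomm y g hyT hgT, rfl⟩
  obtain ⟨n, hn1, hn2⟩ := exists_three_cycle hK.perfect' (s := (⟨s, hK.mem⟩ : K))
    ((Subgroup.orderOf_mk s hK.mem).trans hK.two)
    (fun t ht => Subtype.ext (hK.uniq t t.2 ((Subgroup.orderOf_coe t).trans ht)))
    (y := (⟨y, hy⟩ : K)) (g := (⟨g, hgT.2⟩ : K)) (Subtype.ext hys) (Subtype.ext hg2) (Subtype.ext hgy)
  refine c.false n.2 ?_ ?_
  · rcases hn1 with e | e
    · exact Or.inl (congrArg Subtype.val e)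
    · exact Or.inr (congrArg Subtype.val e)
  · rcases hn2 with e | e
    · exact Or.inl (congrArg Subtype.val e)
    · exact Or.inr (congrArg Subtype.val e)

/-- a component element of order at least four can be replaced by a power whose square normalizes -/
theorem exists_power {y : G} (hK : TC s K) (hy : y ∈ K) (hy2 : IsPGroup 2 (zpowers y))
    (h4 : y * y ≠ 1) (hsJ : s ∈ normalizer (J : Set G)) (hyJ : y ∉ normalizer (J : Set G)) :
    ∃ y' ∈ zpowers y, y' * y' ≠ 1 ∧ y' ∉ normalizer (J : Set G) ∧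
      y' * y' ∈ normalizer (J : Set G) := by
  obtain ⟨k, hk⟩ := isPGroup_zpowers_iff.1 hy2
  induction k generalizing y with
  | zero => exact absurd (by simp only [pow_zero, pow_one] at hk; rw [hk, one_mul]) h4
  | succ k ih =>
    by_cases hu : y * y ∈ normalizer (J : Set G)
    · exact ⟨y, mem_zpowers y, h4, hyJ, hu⟩
    have hyy : y * y ∈ zpowers y := mul_mem (mem_zpowers y) (mem_zpowers y)
    obtain ⟨y', h1, h2⟩ := ih (mul_mem hy hy) (hy2.to_le (zpowers_le.2 hyy))
      (fun e => hu (by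
        rcases uniq_of hK.uniq (mul_mem hy hy) e with e' | e'
        · exact absurd e' h4
        · rw [e']; exact hsJ))
      hu (by rw [← hk, pow_succ', pow_mul, pow_two])
    exact ⟨y', zpowers_le.2 hyy h1, h2⟩

/-- part one: elements of order at least four centralizing `z(J)` normalize `J` -/
theorem part_one (hJ : TC z J) (hK : TC s K)
    (hcard : (Nat.card J).factorization 2 = (Nat.card K).factorization 2) {y : G} (hy : y ∈ K)
    (hy2 : IsPGroup 2 (zpowers y)) (h4 : 4 ≤ orderOf y) (hyz : Commute y z) :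
    y ∈ normalizer (J : Set G) := by
  by_contra hyJ
  have hss := hK.mul_self
  have hyy : y * y ≠ 1 := fun e => by
    have := Nat.le_of_dvd two_pos (orderOf_dvd_of_pow_eq_one (show y ^ 2 = 1 by rw [pow_two, e]))
    omega
  by_cases hzs : s = z
  · subst hzs
    exact hyJ (hJ.L_normalizes (hK.le_L hy))
  have hys : Commute y s := hK.commute hy
  obtain ⟨k, hk⟩ := isPGroup_zpowers_iff.1 hy2
  have hcom : Commute z s := by
    clear hy2 hyJ h4 hys
    induction k generalizing y with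
    | zero => exact absurd (by simp only [pow_zero, pow_one] at hk; rw [hk, one_mul]) hyy
    | succ k ih =>
      by_cases he : (y * y) * (y * y) = 1
      · rcases uniq_of hK.uniq (mul_mem hy hy) he with e | e
        · exact absurd e hyy
        · exact e ▸ (hyz.mul_left hyz).symm
      · exact ih (y := y * y) (mul_mem hy hy) (hyz.mul_left hyz) he
          (by rw [← hk, pow_succ', pow_mul, pow_two])
  have hzK : z ∈ normalizer (K : Set G) := by
    by_contra hn
    have hK' : TC s (K.map (cj z)) := hK.conj hcom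
    have hne : K ≠ K.map (cj z) := fun e => hn (map_cj_eq_iff.1 e.symm)
    have hym : y ∈ K.map (cj z) := ⟨y, hy, cj_eq_self hyz.symm⟩
    rcases hK.inter_two hK' hne hy hym (by rw [inv_mul_cancel]; exact one_mem _) hy2 with e | e
    · exact hyy (by rw [e, one_mul])
    · exact hyy (by rw [e, hss])
  have hsJ := part_two hJ hK hzK
  obtain ⟨y', hy', h1, h2, h3⟩ := exists_power hK hy hy2 hyy hsJ hyJ
  have hy'K : y' ∈ K := zpowers_le.2 hy hy'
  have hy'z : Commute y' z := by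
    obtain ⟨i, rfl⟩ := mem_zpowers_iff.1 hy'
    exact hyz.zpow_left i
  by_cases h8 : y' * y' * (y' * y') = 1
  · rcases uniq_of hK.uniq (mul_mem hy'K hy'K) h8 with e | e
    · exact h1 e
    · exact part_one_small hJ hK hy'K e hy'z hzs hzK hsJ h2
  · exact part_one_big hJ hK hcard hy'K (hy2.to_le (zpowers_le.2 hy')) hy'z hzs h3 h2 h8

end Cfsg.Lib.TwoCompPair
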