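import Cfsg.Agent.Components.TwoCompPair.Setting
import Cfsg.Agent.S1314

/-!
The involution of one component normalizes the other component.
-/

set_option linter.style.haveILetI false
set_option linter.unusedSectionVars false

namespace Cfsg.Lib.TwoCompPair

open Subgroup Cfsg.Lib.Components
open scoped commutatorElement

universe u

variable {G : Type u} [Group G] [Finite G]

theorem two_part {H : Type*} [Group H] [Finite H] (x : H) :
    ∃ r : ℕ, Odd r ∧ IsPGroup 2 (zpowers (x ^ r)) := by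
  obtain ⟨i, r, hr, hir⟩ := Nat.exists_eq_two_pow_mul_odd (orderOf_pos x).ne'
  exact ⟨r, hr, isPGroup_zpowers_of_sq (k := i)
    (by rw [← pow_mul, mul_comm, ← hir, pow_orderOf_eq_one])⟩

theorem pow_odd_of_sq {H : Type*} [Group H] {x : H} (hx : x * x = 1) {r : ℕ} (hr : Odd r) :
    x ^ r = x := by
  obtain ⟨j, rfl⟩ := hr
  rw [pow_succ, pow_mul, pow_two, hx, one_pow, one_mul]


/-- the diagonal involution -/
theorem diag {z s : G} {J : Subgroup G} (hJ : TC z J) (hs : orderOf s = 2) (hsz : Commute s z)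
    (hne : J.map (cj s) ≠ J) {j : G} (hj : j ∈ J) (hj2 : j * j = z) :
    ∃ x : G, x * x = 1 ∧ x ≠ 1 ∧ Commute x z ∧ Commute x s ∧ (j * (s⁻¹ * j * s))⁻¹ * x ∈ O z ∧
      x ∈ LL z s := by
  haveI : Fact (Nat.Prime 2) := ⟨Nat.prime_two⟩
  have hss : s * s = 1 := mul_self_of_two hs
  have hsi : s⁻¹ = s := invol_inv hss
  set s' : C z := ⟨s, mem_C.2 hsz⟩
  have hJ' : TC z (J.map (cj s)) := hJ.conj hsz
  set J₁ := (J.subgroupOf (C z)).map (q z) with hJ₁
  set J₂ := ((J.map (cj s)).subgroupOf (C z)).map (q z) with hJ₂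
  set σ := q z s'
  have hσ2 : σ * σ = 1 := by
    rw [← map_mul, show s' * s' = 1 from Subtype.ext hss, map_one]
  have hσ : orderOf σ = 2 := by
    refine orderOf_eq_two hσ2 fun h => ne_one_of_two hs ?_
    exact eq_one_of_two_odd (O_odd z) ((mem_O_iff (x := s')).2 h) (isPGroup_zpowers_invol hss)
  have hL : IsComponent J₁ := pcomp_image hJ.comp
  have hL' : IsComponent J₂ := pcomp_image hJ'.comp
  have hmap : J₁.map (MulAut.conj σ).toMonoidHom = J₂ := by
    rw [hJ₁, hJ₂, ← map_q_conj]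
    congr 1
    apply Subgroup.map_injective (C z).subtype_injective
    rw [map_subgroupOf_eq_of_le hJ'.le, map_map,
      show (C z).subtype.comp (MulAut.conj s').toMonoidHom = (cj s⁻¹).comp (C z).subtype from
        MonoidHom.ext fun a => by
          show s * (a : G) * s⁻¹ = cj s⁻¹ (a : G)
          rw [cj_apply, inv_inv],
      ← map_map, map_subgroupOf_eq_of_le hJ.le, hsi]
  have hJne : J₂ ≠ J₁ := fun h => hne (hJ'.ext_q hJ h)
  have hcomm : ⁅J₁, J₁.map (MulAut.conj σ).toMonoidHom⁆ = ⊥ := by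
    rw [hmap]; exact comp_commute hL hL' hJne.symm
  obtain ⟨π, hπ, -, hπC, hπM⟩ := Cfsg.Agent.S1314.result σ hσ J₁ (comp_perfect hL) hcomm
  set Y := centralizer ({σ} : Set (C z ⧸ pPrimeCore 2 (C z))) with hY
  set d : C z := ⟨j, hJ.le hj⟩ * (s'⁻¹ * ⟨j, hJ.le hj⟩ * s') with hd
  set y : J₁ := ⟨q z ⟨j, hJ.le hj⟩, mem_map_of_mem _ (show (⟨j, hJ.le hj⟩ : C z) ∈ J.subgroupOf (C z) from hj)⟩
  have hπy : π y = q z d := by
    rw [hπ, hd, map_mul, map_mul, map_mul, map_inv, invol_inv hσ2]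
  have hdne : q z d ≠ 1 := by
    intro h
    have hO : (d : G) ∈ O z := mem_O_iff.2 h
    have hj4 : IsPGroup 2 (zpowers j⁻¹) := isPGroup_zpowers_of_sq (k := 2) (by
      rw [show j⁻¹ ^ 2 ^ 2 = ((j * j) * (j * j))⁻¹ by group, hj2, hJ.mul_self, inv_one])
    rcases hJ.inter_two hJ' (Ne.symm hne) (inv_mem hj) (mem_map_cj hj) (by rw [inv_inv]; exact hO) hj4
      with e | e
    · rw [inv_eq_one] at e; rw [e, one_mul] at hj2; exact hJ.ne_one hj2.symm
    · rw [inv_eq_iff_eq_inv, invol_inv hJ.mul_self] at e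
      rw [e, hJ.mul_self] at hj2; exact hJ.ne_one hj2.symm
  -- the image of the diagonal is a component of the centralizer
  set M := (J₁ ⊔ J₁.map (MulAut.conj σ).toMonoidHom) ⊓ Y with hM
  have hsn : (J₁ ⊔ J₁.map (MulAut.conj σ).toMonoidHom).IsSubnormal := by
    refine isSubnormal_of_normal_in (Subgroup.Normal.isSubnormal (H := layer (C z ⧸ pPrimeCore 2 (C z))) inferInstance)
      (sup_le (comp_le_layer hL) (comp_le_layer (hmap ▸ hL'))) fun g hg => ?_
    rw [mem_normalizer_iff_map_conj_eq, Subgroup.map_sup, hmap]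
    rw [mem_normalizer_iff_map_conj_eq.mp (comp_normal_in_layer hL hg),
      mem_normalizer_iff_map_conj_eq.mp (comp_normal_in_layer hL' hg)]
  have hMsn : (M.subgroupOf Y).IsSubnormal := by
    rw [hM, inf_subgroupOf_right]
    exact hsn.subgroupOf
  have hrange : π.range ≤ M := by
    rw [← hπM]; exact commutator_le_self _
  have hcomp : IsComponent (π.range.subgroupOf Y) := by
    refine ⟨isSubnormal_of_normal_in hMsn (fun a ha => hrange ha) fun g hg => ?_, ?_⟩
    · rw [mem_normalizer_iff]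
      intro a
      have := normalizer_commutator_ge_left M M (show (g : C z ⧸ pPrimeCore 2 (C z)) ∈ M from hg)
      rw [hπM] at this
      exact mem_normalizer_iff.1 this a
    · haveI : Nontrivial ↥π.range := (Subgroup.nontrivial_iff_ne_bot _).mpr fun hb => hdne (by
        rw [← hπy]
        exact mem_bot.1 (hb ▸ ⟨y, rfl⟩ : π y ∈ (⊥ : Subgroup _)))
      exact qs_congr' (subgroupOfEquivOfLe hπC).symm
        (qs_of_surjective hL.2 π.rangeRestrict π.rangeRestrict_surjective)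
  -- lifting
  set X := C z ⊓ C s
  let f : X →* Y := ((q z).comp (inclusion (inf_le_left : X ≤ C z))).codRestrict Y fun a =>
    mem_centralizer_singleton_iff.2 (by
      show q z (inclusion (inf_le_left : X ≤ C z) a) * q z s' = q z s' * q z (inclusion (inf_le_left : X ≤ C z) a)
      rw [← map_mul, ← map_mul]
      exact congrArg _ (Subtype.ext (mem_C.1 a.2.2).eq))
  have hf : Function.Surjective f := by
    rintro ⟨b, hb⟩
    obtain ⟨a, rfl⟩ := QuotientGroup.mk'_surjective _ b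
    set w' := (a : G)⁻¹ * s * a
    have hw2 : w' * w' = 1 := by
      rw [show w' * w' = (a : G)⁻¹ * (s * s) * a by simp only [w']; group, hss]; group
    have ho : w' * s ∈ O z := by
      have h1 : Commute (q z a⁻¹) (q z s') := by
        rw [map_inv]
        exact (show Commute (q z a) σ from mem_centralizer_singleton_iff.1 hb).inv_left
      have := commute_q_iff.1 h1
      rw [commutatorElement_def] at this
      simpa [w', s', hsi, mul_assoc] using this
    obtain ⟨c, hc, hcw⟩ := invol_conj hw2 hss (odd_orderOf_of_mem (O_odd z) ho)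
    have hcO : c ∈ O z := zpowers_le.2 ho hc
    have hmem : (a : G) * c ∈ X := by
      refine Subgroup.mem_inf.2 ⟨mul_mem a.2 (O_le z hcO), mem_C.2 (commute_of_cj ?_)⟩
      rw [cj_apply, show ((a : G) * c)⁻¹ * s * (a * c) = c⁻¹ * w' * c by simp only [w']; group, hcw]
    refine ⟨⟨(a : G) * c, hmem⟩, Subtype.ext ?_⟩
    show q z ⟨(a : G) * c, _⟩ = q z a
    symm
    rw [q_eq_iff]
    show (a : G)⁻¹ * (a * c) ∈ O z
    rw [inv_mul_cancel_left]
    exact hcO
  have hker : (Nat.card f.ker).Coprime 2 := by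
    refine coprime_two_of_odd (Odd.of_dvd_nat (O_odd z) ?_)
    rw [Nat.card_congr (Subgroup.equivMapOfInjective f.ker X.subtype X.subtype_injective).toEquiv]
    refine Subgroup.card_dvd_of_le ?_
    rintro _ ⟨a, ha, rfl⟩
    exact (mem_O_iff (x := inclusion (inf_le_left : X ≤ C z) a)).2
      (congrArg Subtype.val (MonoidHom.mem_ker.1 ha))
  obtain ⟨x₀, hx₀⟩ := hf ⟨π y, hπC ⟨y, rfl⟩⟩
  obtain ⟨r, hr, hr2⟩ := two_part x₀
  set x := x₀ ^ r
  have hd2 : π y * π y = 1 := by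
    have hyy : (y * y : J₁) = ⟨q z ⟨z, self_mem_C z⟩, mem_map_of_mem _
        (show (⟨z, self_mem_C z⟩ : C z) ∈ J.subgroupOf (C z) from hJ.mem)⟩ := Subtype.ext (by
      show q z ⟨j, _⟩ * q z ⟨j, _⟩ = _
      rw [← map_mul]; exact congrArg _ (Subtype.ext hj2))
    rw [← map_mul, hyy, hπ]
    show q z ⟨z, self_mem_C z⟩ * (σ * q z ⟨z, self_mem_C z⟩ * σ⁻¹) = 1
    rw [← map_inv, ← map_mul, ← map_mul, ← map_mul]
    refine (congrArg (q z) (Subtype.ext ?_)).trans (map_one _)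
    show z * (s * z * s⁻¹) = 1
    rw [hsz.eq, mul_inv_cancel_right, hJ.mul_self]
  have hfx : (f x : C z ⧸ pPrimeCore 2 (C z)) = q z d := by
    rw [map_pow, hx₀, SubmonoidClass.coe_pow, pow_odd_of_sq hd2 hr, hπy]
  have hxx : x * x = 1 := by
    refine eq_one_of_two_odd (odd_of_coprime_two hker) (MonoidHom.mem_ker.2 (Subtype.ext ?_))
      (hr2.to_le (zpowers_le.2 (mul_mem (mem_zpowers _) (mem_zpowers _))))
    rw [map_mul, Subgroup.coe_mul, hfx, ← hπy, hd2]; rfl
  have hxne : x ≠ 1 := fun h => hdne (by rw [← hfx, h, map_one]; rfl)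
  have hlay : QuotientGroup.mk' (pPrimeCore 2 X) x ∈ layer (X ⧸ pPrimeCore 2 X) := by
    obtain ⟨e, he⟩ := exists_quotient_equiv_of_coprime_ker hf hker
    have h1 : e (QuotientGroup.mk' (pPrimeCore 2 X) x) = QuotientGroup.mk' (pPrimeCore 2 Y) (f x) :=
      DFunLike.congr_fun he x
    have h2 : (π.range.subgroupOf Y).map (QuotientGroup.mk' (pPrimeCore 2 Y)) ≤ layer _ := by
      rcases comp_map_surjective hcomp _ (QuotientGroup.mk'_surjective (pPrimeCore 2 Y)) with h | h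
      · rw [h]; exact bot_le
      · exact comp_le_layer h
    have h3 := h2 (mem_map_of_mem (QuotientGroup.mk' (pPrimeCore 2 Y)) (show f x ∈ π.range.subgroupOf Y from
      ⟨y, by rw [hπy]; exact hfx.symm⟩))
    rw [← h1, ← layer_map_equiv e] at h3
    exact (mem_map_equiv.1 h3 : e.symm _ ∈ _) |> fun h => by rwa [e.symm_apply_apply] at h
  refine ⟨(x : G), congrArg Subtype.val hxx, fun h => hxne (Subtype.ext h), mem_C.1 x.2.1, mem_C.1 x.2.2, ?_,
    ⟨x, invol_mem_pLayer (orderOf_eq_two hxx hxne) hlay, rfl⟩⟩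
  have h : q z (inclusion (inf_le_left : X ≤ C z) x) = q z d := hfx
  exact q_eq_iff.1 h.symm

variable {z s : G} {J K : Subgroup G}

theorem TC.exists_four (h : TC z J) : ∃ j ∈ J, j * j = z := by
  obtain ⟨P, hP, -⟩ := exists_isSyl (H := J) (A := ⊥) (IsPGroup.of_bot) bot_le
  obtain ⟨A, qs⟩ := h.exists_qs hP
  obtain ⟨t, ht, ht2⟩ := qs.exists_t
  exact ⟨t, hP.1 (qs.le ht), ht2⟩

theorem even_of_mem {A : Subgroup G} {s : G} (hs : orderOf s = 2) (h : s ∈ A) : ¬ Odd (Nat.card A) :=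
  fun ho => ne_one_of_two hs (eq_one_of_two_odd ho h (isPGroup_zpowers_invol (mul_self_of_two hs)))

theorem subnormal_inf {K : Subgroup G} {a b : G} (h : (K.subgroupOf (C a)).IsSubnormal) :
    ((K ⊓ C b).subgroupOf (C a ⊓ C b)).IsSubnormal := by
  have h1 := h.comap (inclusion (inf_le_left : C a ⊓ C b ≤ C a))
  have h2 : (K ⊓ C b).subgroupOf (C a ⊓ C b) =
      (K.subgroupOf (C a)).comap (inclusion (inf_le_left : C a ⊓ C b ≤ C a)) := by
    ext x
    exact ⟨fun hx => hx.1, fun hx => ⟨hx, x.2.2⟩⟩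
  rw [h2]
  exact h1

theorem commute_of_normalizes (hz : z * z = 1) (hK : TC s K) (hzK : z ∈ normalizer (K : Set G)) :
    Commute z s := by
  have h := hK.uniq _ ((mem_normalizer_iff.1 hzK s).1 hK.mem)
    (by rw [show z * s * z⁻¹ = MulAut.conj z s from rfl, MulEquiv.orderOf_eq]; exact hK.two)
  exact mul_inv_eq_iff_eq_mul.1 h

/-- part two: if `z(J)` normalizes `K` then `z(K)` normalizes `J` -/
theorem part_two (hJ : TC z J) (hK : TC s K) (hzK : z ∈ normalizer (K : Set G)) :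
    s ∈ normalizer (J : Set G) := by
  haveI : Fact (Nat.Prime 2) := ⟨Nat.prime_two⟩
  by_cases hzs : s = z
  · rw [hzs]; exact le_normalizer hJ.mem
  by_contra hsJ
  have hzz := hJ.mul_self
  have hss := hK.mul_self
  have hcom : Commute z s := commute_of_normalizes hzz hK hzK
  have hJ' : TC z (J.map (cj s)) := hJ.conj hcom.symm
  have hne : J.map (cj s) ≠ J := fun h => hsJ (map_cj_eq_iff.1 h)
  have hHle : K ⊓ C z ≤ C z ⊓ C s := fun a ha => ⟨ha.2, hK.le ha.1⟩
  by_cases hW : NoEvenPerfect (K ⊓ C z)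
  swap
  · unfold NoEvenPerfect at hW
    push Not at hW
    obtain ⟨A, hA, hAp, hodd⟩ := hW
    have h2 : 2 ∣ Nat.card A := by
      rw [Nat.not_odd_iff_even] at hodd
      exact hodd.two_dvd
    obtain ⟨⟨a, ha⟩, hao⟩ := exists_prime_orderOf_dvd_card' 2 h2
    have hao' : orderOf a = 2 := (Subgroup.orderOf_coe (⟨a, ha⟩ : A)).trans hao
    have hsA : s ∈ A := hK.uniq a (hA ha).1 hao' ▸ ha
    have hLL := mem_LL_of_perfect (a := s) (b := z) (H := K ⊓ C z) (fun a ha => ⟨hK.le ha.1, ha.2⟩)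
      (subnormal_inf hK.comp.1) hA hAp hsA hK.two (fun t ht => hK.uniq t ht.1)
    rw [LL_comm] at hLL
    exact hsJ (hJ.L_normalizes (LL_le_L hss hcom.symm hLL))
  rcases hK.zstar hzz hcom hzK with hleft | ⟨g, hg, hgz⟩
  · obtain ⟨h1, -⟩ := hK.mem_pLayerOf hJ.two hcom hleft
    exact even_of_mem hK.two h1 (hW _ (pLayerOf_le _) (pLayerOf_perfect _))
  obtain ⟨j, hj, hj2⟩ := hJ.exists_four
  obtain ⟨x, hxx, hx1, hxz, hxs, hxd, hxLL⟩ := diag hJ hK.two hcom.symm hne hj hj2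
  have hgs : Commute g s := hK.commute hg
  -- `x` centralizes `K` modulo the core
  have hxK : ∀ k ∈ K, ⁅x, k⁆ ∈ O s := by
    refine hK.trivial_action (LL_perfect z s) ?_ (t := ⟨z, mem_C.2 hcom⟩) hzK ?_ ?_ hxLL
      (isPGroup_zpowers_invol hxx)
    · rw [LL_comm]; exact LL_le_L hzz hcom
    · exact fun r hr => mem_C.1 (LL_le z s hr).1
    · exact hK.fixed_of_invol hzz hzK hW
  -- the element `e' = x z s`
  set J₁ : C z := ⟨j, hJ.le hj⟩
  set S : C z := ⟨s, mem_C.2 hcom.symm⟩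
  set Z : C z := ⟨z, self_mem_C z⟩
  set X : C z := ⟨x, mem_C.2 hxz⟩
  have hsi : s⁻¹ = s := invol_inv hss
  have hqx : q z X = q z J₁ * (q z S * q z J₁ * q z S) := by
    rw [← map_mul, ← map_mul, ← map_mul]
    refine (q_eq_iff.2 ?_).symm
    show (j * (s * j * s))⁻¹ * x ∈ O z
    rwa [hsi] at hxd
  have hSS : q z S * q z S = 1 := by
    rw [← map_mul, show S * S = 1 from Subtype.ext hss, map_one]
  have hZJ : q z J₁ * q z J₁ = q z Z := by
    rw [← map_mul, show J₁ * J₁ = Z from Subtype.ext hj2]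
  have hZS : q z S * q z Z = q z Z * q z S := by
    rw [← map_mul, ← map_mul, show S * Z = Z * S from Subtype.ext hcom.eq.symm]
  have hZZ : q z Z * q z Z = 1 := by
    rw [← map_mul, show Z * Z = 1 from Subtype.ext hzz, map_one]
  have hJi : q z J₁ * q z Z = (q z J₁)⁻¹ := by
    refine eq_inv_of_mul_eq_one_left ?_
    have : q z Z * q z J₁ = q z J₁ * q z Z := by rw [← hZJ, mul_assoc]
    rw [mul_assoc, this, ← mul_assoc, hZJ, hZZ]
  set e' := x * z * s with he'
  have he'2 : e' * e' = 1 := by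
    rw [he', (show Commute s (x * z) from hxs.symm.mul_right hcom.symm).mul_mul_mul_comm, hss,
      mul_one, hxz.symm.mul_mul_mul_comm, hxx, hzz, mul_one]
  have he's : Commute e' s := (hxs.mul_left hcom).mul_left (Commute.refl s)
  have hqe : q z (X * Z * S) = q z J₁ * q z S * (q z J₁)⁻¹ := by
    rw [map_mul, map_mul, hqx, ← hJi]
    calc q z J₁ * (q z S * q z J₁ * q z S) * q z Z * q z S
        = q z J₁ * q z S * q z J₁ * (q z S * q z Z) * q z S := by group
      _ = q z J₁ * q z S * q z J₁ * (q z Z * (q z S * q z S)) := by rw [hZS]; group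
      _ = q z J₁ * q z S * (q z J₁ * q z Z) := by rw [hSS]; group
  have ho1 : j * s * j⁻¹ * e' ∈ O z := by
    show ((J₁ * S * J₁⁻¹ * (X * Z * S) : C z) : G) ∈ O z
    rw [mem_O_iff, map_mul, map_mul, map_mul, map_inv, hqe]
    calc q z J₁ * q z S * (q z J₁)⁻¹ * (q z J₁ * q z S * (q z J₁)⁻¹)
        = q z J₁ * (q z S * q z S) * (q z J₁)⁻¹ := by group
      _ = 1 := by rw [hSS]; group
  obtain ⟨c, hc, hce⟩ := invol_conj (show j * s * j⁻¹ * (j * s * j⁻¹) = 1 by
    rw [show j * s * j⁻¹ * (j * s * j⁻¹) = j * (s * s) * j⁻¹ by group, hss]; group) he'2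
    (odd_orderOf_of_mem (O_odd z) ho1)
  have hcO : c ∈ O z := zpowers_le.2 ho1 hc
  set j₁ := c⁻¹ * j with hj₁
  have hej : j₁ * s * j₁⁻¹ = e' := by rw [hj₁, ← hce]; group
  have hj₁C : j₁ ∈ C z := mul_mem (inv_mem (O_le z hcO)) (hJ.le hj)
  have hqj : q z ⟨j₁, hj₁C⟩ = q z J₁ := by
    rw [show (⟨j₁, hj₁C⟩ : C z) = (⟨c, O_le z hcO⟩ : C z)⁻¹ * J₁ from Subtype.ext rfl, map_mul, map_inv,
      (mem_O_iff (x := ⟨c, O_le z hcO⟩)).1 hcO, inv_one, one_mul]
  -- the involutions `w` and `x₂`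
  have hj₁z : Commute j₁ z := mem_C.1 hj₁C
  have hsj : Commute (j₁⁻¹ * s * j₁) s := by
    have := (he's.map (cj j₁)).symm
    rwa [cj_apply, cj_apply, ← hej, show j₁⁻¹ * (j₁ * s * j₁⁻¹) * j₁ = s by group] at this
    -- conjugate of the commuting pair
  set w := z * (j₁⁻¹ * s * j₁) with hw
  have hzj : Commute z (j₁⁻¹ * s * j₁) := (hj₁z.symm.inv_right.mul_right hcom).mul_right hj₁z.symm
  have hsj2 : (j₁⁻¹ * s * j₁) * (j₁⁻¹ * s * j₁) = 1 := by
    rw [show (j₁⁻¹ * s * j₁) * (j₁⁻¹ * s * j₁) = j₁⁻¹ * (s * s) * j₁ by group, hss]; group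
  have hww : w * w = 1 := by rw [hw, hzj.symm.mul_mul_mul_comm, hzz, hsj2, mul_one]
  have hws : Commute w s := hcom.mul_left hsj
  set x₂ := w * s with hx₂
  have hx₂2 : x₂ * x₂ = 1 := by rw [hx₂, hws.symm.mul_mul_mul_comm, hww, hss, mul_one]
  have hx₂s : Commute x₂ s := hws.mul_left (Commute.refl s)
  have hx₂C : x₂ ∈ C z := mem_C.2 (((Commute.refl z).mul_left hzj.symm).mul_left hcom.symm)
  have hqx₂ : q z ⟨x₂, hx₂C⟩ = q z X := by
    rw [show (⟨x₂, hx₂C⟩ : C z) = Z * ((⟨j₁, hj₁C⟩ : C z)⁻¹ * S * ⟨j₁, hj₁C⟩) * S from Subtype.ext rfl,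
      map_mul, map_mul, map_mul, map_mul, map_inv, hqj, hqx, ← hZJ]
    group
  have ho2 : x * x₂ ∈ O z := by
    show ((X * ⟨x₂, hx₂C⟩ : C z) : G) ∈ O z
    rw [mem_O_iff, map_mul, hqx₂, ← map_mul, show X * X = 1 from Subtype.ext hxx, map_one]
  have ho2' : x * x₂ ∈ O z ⊓ C s := Subgroup.mem_inf.2 ⟨ho2, mem_C.2 (hxs.mul_left hx₂s)⟩
  obtain ⟨n, hn, hnx⟩ := invol_conj hxx hx₂2 (odd_orderOf_of_mem (O_odd z) ho2)
  have hnO := zpowers_le.2 ho2' hn
  have hns : Commute n s := mem_C.1 hnO.2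
  have hK₂ : TC s (K.map (cj n)) := hK.conj hns
  have hx₂1 : x₂ ≠ 1 := fun h => hx1 (by
    have h' : cj n x = cj n 1 := by rw [map_one, cj_apply, hnx, h]
    exact cj_injective n h')
  have hx₂K : ∀ k ∈ K.map (cj n), ⁅x₂, k⁆ ∈ O s := by
    rintro _ ⟨k, hk, rfl⟩
    rw [← hnx, ← cj_apply, ← map_commutatorElement, cj_apply]
    exact (map_cj_eq_iff.2 (C_le_normalizer_O s (mem_C.2 hns))).le (mem_map_cj (hxK k hk))
  obtain ⟨hs1, hs2⟩ := hK₂.mem_pLayerOf (orderOf_eq_two hx₂2 hx₂1) hx₂s hx₂K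
  have heq : C s ⊓ C x₂ = C w ⊓ C s := by
    ext a
    simp only [Subgroup.mem_inf, mem_C]
    constructor
    · rintro ⟨h1, h2⟩
      refine ⟨?_, h1⟩
      have := h2.mul_right h1
      rwa [hx₂, mul_assoc, hss, mul_one] at this
    · rintro ⟨h1, h2⟩
      exact ⟨h2, h1.mul_right h2⟩
  have hsLL : s ∈ LL w s := by
    have := hs2 hs1
    rwa [LL, heq] at this
  -- transport to `C(z)`
  have h1 : e' ∈ LL (z * s) e' := by
    have := mem_map_cj (g := j₁⁻¹) hsLL
    rwa [LL_map_cj, inv_inv, hej, hw, ← mul_assoc j₁ z, hj₁z.eq, show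
      z * j₁ * (j₁⁻¹ * s * j₁) * j₁⁻¹ = z * s by group] at this
  set x' := g⁻¹ * x * g with hx'
  have hgi : g⁻¹ * s * g = s := by rw [← cj_apply]; exact cj_eq_self hgs
  have hgzs : g⁻¹ * (z * s) * g = z := by
    rw [show g⁻¹ * (z * s) * g = (g⁻¹ * z * g) * (g⁻¹ * s * g) by group, hgz, hgi, mul_assoc, hss, mul_one]
  have hge : g⁻¹ * e' * g = x' * z := by
    rw [he', show g⁻¹ * (x * z * s) * g = x' * (g⁻¹ * z * g) * (g⁻¹ * s * g) by rw [hx']; group, hgz, hgi]
    simp [mul_assoc, hss]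
  have h2 : x' * z ∈ LL z (x' * z) := by
    have := mem_map_cj (g := g) h1
    rwa [LL_map_cj, hgzs, hge] at this
  have hx'z : Commute x' z := by
    have a1 : Commute x' (z * s) := by
      have := hxz.map (cj g)
      rwa [cj_apply, cj_apply, hgz, ← hx'] at this
    have a2 : Commute x' s := by
      have := hxs.map (cj g)
      rwa [cj_apply, cj_apply, hgi, ← hx'] at this
    have := a1.mul_right a2
    rwa [mul_assoc, hss, mul_one] at this
  have hx'2 : x' * x' = 1 := by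
    rw [hx', show g⁻¹ * x * g * (g⁻¹ * x * g) = g⁻¹ * (x * x) * g by group, hxx]; group
  have ho3 : x * x' ∈ O s := by
    have := hxK g⁻¹ (inv_mem hg)
    rw [commutatorElement_def, inv_inv, invol_inv hxx] at this
    rwa [hx', show x * (g⁻¹ * x * g) = x * g⁻¹ * x * g by group]
  obtain ⟨m, hm, hmx⟩ := invol_conj hxx hx'2 (odd_orderOf_of_mem (O_odd s) ho3)
  have hmz : Commute m z := by
    have : x * x' ∈ C z := mem_C.2 (hxz.mul_left hx'z)
    exact mem_C.1 (zpowers_le.2 this hm)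
  have h3 : x * z ∈ LL z (x * z) := by
    have := mem_map_cj (g := m⁻¹) h2
    rwa [LL_map_cj, inv_inv, show m * z * m⁻¹ = z by rw [hmz.eq, mul_inv_cancel_right],
      show m * (x' * z) * m⁻¹ = (m * x' * m⁻¹) * (m * z * m⁻¹) by group,
      show m * z * m⁻¹ = z by rw [hmz.eq, mul_inv_cancel_right],
      show m * x' * m⁻¹ = x by rw [← hmx]; group] at this
  have hxz2 : x * z * (x * z) = 1 := by rw [hxz.symm.mul_mul_mul_comm, hxx, hzz, mul_one]
  have hLz : LL z (x * z) ≤ L z := LL_le_L hxz2 (hxz.mul_left (Commute.refl z))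
  set T : C z := X * Z
  have hqT : q z T = q z J₁ * (q z S * q z J₁ * q z S) * q z Z := by rw [map_mul, hqx]
  have hTfix : ∀ a (ha : a ∈ J), Commute (q z ⟨a, hJ.le ha⟩) (q z T) →
      Commute (q z ⟨a, hJ.le ha⟩) (q z J₁) := by
    intro a ha hT
    have hJ₂ : Commute (q z ⟨a, hJ.le ha⟩) (q z S * q z J₁ * q z S) := by
      rw [← map_mul, ← map_mul]
      refine commute_q_iff.2 (hJ.commutator_mem_O hJ' (Ne.symm hne) ha ?_)
      have := mem_map_cj (g := s) hj
      rwa [hsi] at this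
    have hZ : Commute (q z ⟨a, hJ.le ha⟩) (q z Z) :=
      (show Commute (⟨a, hJ.le ha⟩ : C z) Z from Subtype.ext (hJ.commute ha).eq).map _
    rw [hqT, mul_assoc] at hT
    have := hT.mul_right (hJ₂.mul_right hZ).inv_right
    rwa [mul_inv_cancel_right] at this
  have key := hJ.trivial_action (LL_perfect z (x * z)) hLz (t := T)
    (hJ.L_normalizes (hLz h3)) (fun r hr => mem_C.1 (LL_le z (x * z) hr).2)
    (hJ.fixed_of_four hj hj2 hTfix) h3 (isPGroup_zpowers_invol hxz2)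
  have hjc : ∀ a ∈ J, ⁅j, a⁆ ∈ O z := fun a ha =>
    (commute_q_iff (a := J₁) (b := ⟨a, hJ.le ha⟩)).1
      (hTfix a ha ((commute_q_iff (a := T) (b := ⟨a, hJ.le ha⟩)).2 (key a ha)).symm).symm
  rcases hJ.two_elt_central hj (isPGroup_zpowers_of_sq (k := 2) (by
    rw [show j ^ 2 ^ 2 = (j * j) * (j * j) by simp [pow_succ, mul_assoc], hj2, hzz])) hjc with e | e
  · rw [e, one_mul] at hj2; exact hJ.ne_one hj2.symm
  · rw [e, hzz] at hj2; exact hJ.ne_one hj2.symm

end Cfsg.Lib.TwoCompPair
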