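import Cfsg.Agent.Components.TwoCompPair.Group
import Cfsg.Agent.Frobenius.UniqueSubgroup
import Cfsg.Agent.CyclicInter.Main
import Cfsg.Agent.InvolCalc.ZStarApps

/-!
Two-groups with one involution.
-/

set_option linter.style.haveILetI false
set_option linter.unusedSectionVars false

namespace Cfsg.Lib.TwoCompPair

open Subgroup
open scoped commutatorElement

universe u

variable {G : Type u} [Group G] [Finite G]

/-- a noncyclic 2-group `T` with a unique involution `z` and a cyclic subgroup `A` of index two -/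
structure QS (T A : Subgroup G) (z : G) : Prop where
  pgroup : IsPGroup 2 T
  le : A ≤ T
  cyc : IsCyclic A
  relIndex : A.relIndex T = 2
  eight : 8 ≤ Nat.card T
  zmem : z ∈ T
  two : orderOf z = 2
  uniq : ∀ x ∈ T, x * x = 1 → x = 1 ∨ x = z
  out : ∀ x ∈ T, x ∉ A → x * x = z ∧ ∀ a ∈ A, x * a * x⁻¹ = a⁻¹

theorem uniq_of {T : Subgroup G} {z : G} (huniq : ∀ t ∈ T, orderOf t = 2 → t = z) {x : G}
    (hx : x ∈ T) (h : x * x = 1) : x = 1 ∨ x = z := by
  by_cases h1 : x = 1
  · exact Or.inl h1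
  · exact Or.inr (huniq x hx (orderOf_eq_two h h1))

theorem exists_qs {T : Subgroup G} (hT : IsPGroup 2 T) {z : G} (hzT : z ∈ T) (hz : orderOf z = 2)
    (huniq : ∀ t ∈ T, orderOf t = 2 → t = z) (hnc : ¬ IsCyclic T) : ∃ A, QS T A z := by
  classical
  haveI : Fact (Nat.Prime 2) := ⟨Nat.prime_two⟩
  rcases Cfsg.Lib.UniqueSub.isCyclic_or_quaternion hT (fun x y hx hy => by
      have h1 : x = y := Subtype.ext ((huniq x x.2 ((Subgroup.orderOf_coe x).trans hx)).trans
        (huniq y y.2 ((Subgroup.orderOf_coe y).trans hy)).symm)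
      rw [h1]; exact mem_zpowers y) with h | ⟨-, n, ⟨e⟩⟩
  · exact absurd h hnc
  have hcard : Nat.card T = 4 * 2 ^ n := by
    rw [Nat.card_congr e.toEquiv, Nat.card_eq_fintype_card, QuaternionGroup.card]
  have hn : n ≠ 0 := by
    intro h0
    subst h0
    refine hnc (isCyclic_of_orderOf_eq_card (e.symm (QuaternionGroup.xa 0)) ?_)
    rw [MulEquiv.orderOf_eq, QuaternionGroup.orderOf_xa, hcard, pow_zero, mul_one]
  set c : T := e.symm (QuaternionGroup.a 1) with hc
  have hle : (zpowers c).map T.subtype ≤ T := map_subtype_le _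
  refine ⟨(zpowers c).map T.subtype, hT, hle, ?_, ?_, ?_, hzT, hz, fun x => uniq_of huniq, ?_⟩
  · exact isCyclic_of_surjective ((zpowers c).equivMapOfInjective T.subtype T.subtype_injective).toMonoidHom
      (MulEquiv.surjective _)
  · have h := relIndex_mul_relIndex ⊥ ((zpowers c).map T.subtype) T bot_le hle
    rw [relIndex_bot_left, relIndex_bot_left, hcard,
      ← Nat.card_congr (Subgroup.equivMapOfInjective _ _ T.subtype_injective).toEquiv,
      Nat.card_zpowers, hc, MulEquiv.orderOf_eq, QuaternionGroup.orderOf_a_one] at h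
    have : 0 < 2 ^ n := Nat.two_pow_pos n
    nlinarith [h]
  · rw [hcard]
    calc 8 = 4 * 2 ^ 1 := rfl
      _ ≤ 4 * 2 ^ n := Nat.mul_le_mul_left 4 (Nat.pow_le_pow_right (by norm_num) (Nat.one_le_iff_ne_zero.2 hn))
  · intro x hx hxA
    have hA : ∀ i : ZMod (2 * 2 ^ n), ((e.symm (QuaternionGroup.a i) : T) : G) ∈ (zpowers c).map T.subtype :=
      fun i => ⟨e.symm (QuaternionGroup.a i), ⟨(i.val : ℤ), by
        show c ^ ((i.val : ℕ) : ℤ) = _
        rw [zpow_natCast, hc, ← map_pow, QuaternionGroup.a_one_pow, ZMod.natCast_zmod_val]⟩, rfl⟩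
    obtain ⟨i, hi⟩ : ∃ i, e ⟨x, hx⟩ = QuaternionGroup.xa i := by
      cases h : e ⟨x, hx⟩ with
      | a i =>
        refine absurd ?_ hxA
        have := hA i
        rwa [← h, e.symm_apply_apply] at this
      | xa i => exact ⟨i, rfl⟩
    constructor
    · have hord : orderOf (⟨x, hx⟩ : T) = 4 := by
        rw [← MulEquiv.orderOf_eq e, hi, QuaternionGroup.orderOf_xa]
      refine huniq _ (mul_mem hx hx) ?_
      rw [← pow_two, orderOf_pow' x (by norm_num : (2 : ℕ) ≠ 0),
        show orderOf x = 4 from (Subgroup.orderOf_coe (⟨x, hx⟩ : T)).trans hord]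
      decide
    · rintro _ ⟨a, ha, rfl⟩
      obtain ⟨k, hk⟩ := mem_zpowers_iff.1 ha
      have h1 : (⟨x, hx⟩ : T) * c * ⟨x, hx⟩⁻¹ = c⁻¹ := by
        rw [mul_inv_eq_iff_eq_mul]
        apply e.injective
        rw [map_mul, map_mul, map_inv, hi, hc, e.apply_symm_apply,
          show (QuaternionGroup.a (1 : ZMod (2 * 2 ^ n)))⁻¹ = QuaternionGroup.a (-1) from rfl,
          QuaternionGroup.xa_mul_a, QuaternionGroup.a_mul_xa, sub_neg_eq_add]
      have h2 := congrArg Subtype.val (show (⟨x, hx⟩ : T) * a * ⟨x, hx⟩⁻¹ = a⁻¹ by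
        rw [← hk, ← conj_zpow, h1, inv_zpow])
      simpa using h2

variable {T A : Subgroup G} {z : G}

theorem QS.mul_mem_iff (q : QS T A z) {a b : G} (ha : a ∈ T) (hb : b ∈ T) :
    a * b ∈ A ↔ (a ∈ A ↔ b ∈ A) :=
  Subgroup.mul_mem_iff_of_index_two (H := A.subgroupOf T) q.relIndex (a := ⟨a, ha⟩) (b := ⟨b, hb⟩)

theorem QS.sq_mem (q : QS T A z) {a : G} (ha : a ∈ T) : a * a ∈ A :=
  (q.mul_mem_iff ha ha).2 Iff.rfl

theorem QS.exists_out (q : QS T A z) : ∃ x ∈ T, x ∉ A := by
  by_contra h
  push Not at h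
  have := q.relIndex
  rw [relIndex_eq_one.2 h] at this
  omega

theorem QS.z_mem (q : QS T A z) : z ∈ A := by
  obtain ⟨x, hx, hxA⟩ := q.exists_out
  rw [← (q.out x hx hxA).1]
  exact q.sq_mem hx

theorem QS.card_A (q : QS T A z) : 2 * Nat.card A = Nat.card T := by
  have h := relIndex_mul_relIndex ⊥ A T bot_le q.le
  rw [relIndex_bot_left, relIndex_bot_left, q.relIndex] at h
  omega

theorem QS.exists_gen (q : QS T A z) : ∃ a ∈ A, orderOf a = Nat.card A ∧ a * a ≠ 1 := by
  haveI := q.cyc
  obtain ⟨a, ha⟩ := IsCyclic.exists_ofOrder_eq_natCard (α := A)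
  refine ⟨a, a.2, by rw [Subgroup.orderOf_coe]; exact ha, fun h => ?_⟩
  have h2 : orderOf (a : G) ∣ 2 := orderOf_dvd_of_pow_eq_one (by rw [pow_two]; exact h)
  rw [Subgroup.orderOf_coe, ha] at h2
  have := Nat.le_of_dvd two_pos h2
  have := q.card_A
  have := q.eight
  omega

theorem QS.ne_one (q : QS T A z) : z ≠ 1 := ne_one_of_two q.two

theorem QS.z_sq (q : QS T A z) : z * z = 1 := mul_self_of_two q.two

theorem QS.commA (q : QS T A z) {a b : G} (ha : a ∈ A) (hb : b ∈ A) : Commute a b := by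
  haveI := q.cyc
  letI : CommGroup A := IsCyclic.commGroup
  exact congrArg Subtype.val (mul_comm (⟨a, ha⟩ : A) ⟨b, hb⟩)

/-- an element commuting with an element outside and lying in `A` has square one -/
theorem QS.sq_of_commute_out (q : QS T A z) {a x : G} (ha : a ∈ A) (hx : x ∈ T) (hxA : x ∉ A)
    (h : Commute a x) : a * a = 1 := by
  have h1 := (q.out x hx hxA).2 a ha
  rw [show x * a * x⁻¹ = a by rw [← h.eq, mul_inv_cancel_right]] at h1
  exact eq_inv_iff_mul_eq_one.1 h1

theorem QS.central (q : QS T A z) {h : G} (hh : h ∈ T) (hc : ∀ t ∈ T, Commute h t) :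
    h = 1 ∨ h = z := by
  obtain ⟨a, ha, -, ha2⟩ := q.exists_gen
  have hA : h ∈ A := by
    by_contra hn
    exact ha2 (q.sq_of_commute_out ha hh hn (hc a (q.le ha)).symm)
  obtain ⟨x, hx, hxA⟩ := q.exists_out
  exact q.uniq h hh (q.sq_of_commute_out hA hx hxA (hc x hx))

/-- an involutory automorphism that is not trivial inverts an element of order four -/
theorem QS.exists_inverted (q : QS T A z) {w : G} (hw : w * w = 1) (hwT : w ∈ normalizer (T : Set G))
    (hwz : Commute w z) (hne : ∃ t ∈ T, ¬ Commute w t) :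
    ∃ h ∈ T, h * h = z ∧ w * h * w = h⁻¹ := by
  have hwi : w⁻¹ = w := invol_inv hw
  have hmem : ∀ t ∈ T, w * t * w ∈ T := fun t ht => by
    have := (mem_normalizer_iff.1 hwT t).1 ht
    rwa [hwi] at this
  by_cases hbig : ∃ c ∈ T, c⁻¹ * (w * c * w) ≠ 1 ∧ c⁻¹ * (w * c * w) ≠ z
  · obtain ⟨c, hc, h1, h2⟩ := hbig
    set k := c⁻¹ * (w * c * w) with hk
    have hkT : k ∈ T := mul_mem (inv_mem hc) (hmem c hc)
    have hkinv : w * k * w = k⁻¹ := by
      have e : ∀ a b : G, w * (a * b) * w = (w * a * w) * (w * b * w) := fun a b => by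
        calc w * (a * b) * w = w * a * (w * w) * b * w := by rw [hw]; group
          _ = _ := by group
      rw [hk, e, show w * (w * c * w) * w = (w * w) * c * (w * w) by group, hw, one_mul, mul_one,
        mul_inv_rev, inv_inv]
      have : w * c⁻¹ * w = (w * c * w)⁻¹ := by simp only [mul_inv_rev, hwi, mul_assoc]
      rw [this]
    obtain ⟨i, hi⟩ := isPGroup_zpowers_iff.1 (isPGroup_zpowers_of_mem q.pgroup hkT)
    clear hk
    clear_value k
    induction i generalizing k with
    | zero => exact absurd (by simpa using hi) h1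
    | succ i ih =>
      by_cases hk2 : k * k = z
      · exact ⟨k, hkT, hk2, hkinv⟩
      refine ih (k := k * k) (fun he => ?_) hk2 (mul_mem hkT hkT) ?_ ?_
      · rcases q.uniq k hkT he with e | e
        · exact h1 e
        · exact h2 e
      · rw [show w * (k * k) * w = w * k * (w * w) * k * w by rw [hw]; group,
          show w * k * (w * w) * k * w = (w * k * w) * (w * k * w) by group, hkinv, mul_inv_rev]
      · rw [← hi, pow_succ', pow_mul, pow_two]
  push Not at hbig
  have hF : ∀ c ∈ T, w * c * w = c ∨ w * c * w = c * z := by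
    intro c hc
    by_cases h : c⁻¹ * (w * c * w) = 1
    · left; exact (inv_mul_eq_one.1 h).symm
    · right; rw [← hbig c hc h, mul_inv_cancel_left]
  by_contra hcon
  push Not at hcon
  have hfix : ∀ c ∈ T, c * c = z → Commute w c := by
    intro c hc h2
    rcases hF c hc with e | e
    · exact show w * c = c * w by
        conv_rhs => rw [← e]
        rw [mul_assoc, hw, mul_one]
    · refine absurd ?_ (hcon c hc h2)
      rw [e, ← h2]
      have : c * (c * c) * c = 1 := by
        rw [show c * (c * c) * c = (c * c) * (c * c) by group, h2, q.z_sq]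
      exact eq_inv_of_mul_eq_one_left this
  obtain ⟨x, hx, hxA⟩ := q.exists_out
  obtain ⟨t, ht, htn⟩ := hne
  apply htn
  by_cases htA : t ∈ A
  · have hxt : x * t ∉ A := fun h => hxA (((q.mul_mem_iff hx (q.le htA)).1 h).2 htA)
    have h1 := (hfix x hx (q.out x hx hxA).1)
    have h2 := hfix _ (mul_mem hx (q.le htA)) (q.out _ (mul_mem hx (q.le htA)) hxt).1
    have := h1.inv_right.mul_right h2
    rwa [inv_mul_cancel_left] at this
  · exact hfix t ht (q.out t ht htA).1

theorem QS.exists_t (q : QS T A z) : ∃ t ∈ A, t * t = z := by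
  obtain ⟨a, ha, -, ha2⟩ := q.exists_gen
  obtain ⟨i, hi⟩ := isPGroup_zpowers_iff.1 (isPGroup_zpowers_of_mem q.pgroup (q.le ha))
  induction i generalizing a with
  | zero => exact absurd (by simp only [pow_zero, pow_one] at hi; rw [hi, one_mul]) ha2
  | succ i ih =>
    by_cases h : a * a = z
    · exact ⟨a, ha, h⟩
    refine ih (a * a) (mul_mem ha ha) (fun he => ?_) (by rw [← hi, pow_succ', pow_mul, pow_two])
    rcases q.uniq _ (q.le (mul_mem ha ha)) he with e | e
    · exact ha2 e
    · exact h e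

theorem QS.A_of_sq (q : QS T A z) {x : G} (hx : x ∈ T) (h : x * x ≠ z) : x ∈ A := by
  by_contra hn
  exact h (q.out x hx hn).1

/-- elements of order four of `T` have an anticommuting partner -/
theorem QS.exists_partner (q : QS T A z) {y : G} (hy : y ∈ T) (hy2 : y * y = z) :
    ∃ g ∈ T, g * g = z ∧ y⁻¹ * g * y = g⁻¹ := by
  obtain ⟨x, hx, hxA⟩ := q.exists_out
  by_cases hyA : y ∈ A
  · refine ⟨x, hx, (q.out x hx hxA).1, ?_⟩
    have h1 := (q.out x hx hxA).2 y hyA
    rw [mul_inv_eq_iff_eq_mul] at h1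
    calc y⁻¹ * x * y = y⁻¹ * (x * y) := by group
      _ = y⁻¹ * y⁻¹ * x := by rw [h1]; group
      _ = (y * y)⁻¹ * x := by group
      _ = x⁻¹ := by
          rw [hy2, ← (q.out x hx hxA).1]; group
  · obtain ⟨t, ht, ht2⟩ := q.exists_t
    refine ⟨t, q.le ht, ht2, ?_⟩
    have hy' : y⁻¹ ∉ A := fun h => hyA (by simpa using inv_mem h)
    have := (q.out y⁻¹ (inv_mem hy) hy').2 t ht
    rwa [inv_inv] at this

theorem QS.pair_centralizer (q : QS T A z) {y g k : G} (hy : y ∈ T) (hg : g ∈ T) (hg2 : g * g = z)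
    (hyg : y⁻¹ * g * y = g⁻¹) (hk : k ∈ T) (ky : Commute k y) (kg : Commute k g) :
    k = 1 ∨ k = z := by
  refine q.uniq k hk ?_
  have hnc : ¬ Commute y g := fun h => by
    rw [mul_assoc, ← h.eq, inv_mul_cancel_left, eq_inv_iff_mul_eq_one, hg2] at hyg
    exact q.ne_one hyg
  obtain ⟨w, hw, hwA, kw⟩ : ∃ w ∈ T, w ∉ A ∧ Commute k w := by
    by_cases hgA : g ∈ A
    · exact ⟨y, hy, fun h => hnc (q.commA h hgA), ky⟩
    · exact ⟨g, hg, hgA, kg⟩
  by_cases hkA : k ∈ A
  · exact q.sq_of_commute_out hkA hw hwA kw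
  exfalso
  apply hnc
  have key : ∀ v ∈ T, Commute k v → v = 1 ∨ v = z ∨ v = k ∨ v = k * z := by
    intro v hv kv
    by_cases hvA : v ∈ A
    · rcases q.uniq v hv (q.sq_of_commute_out hvA hk hkA kv.symm) with e | e
      · exact Or.inl e
      · exact Or.inr (Or.inl e)
    · have hp : k⁻¹ * v ∈ A := (q.mul_mem_iff (inv_mem hk) hv).2
        ⟨fun h => absurd (by simpa using inv_mem h) hkA, fun h => absurd h hvA⟩
      rcases q.uniq _ (q.le hp) (q.sq_of_commute_out hp hk hkA
          ((Commute.refl k).inv_left.mul_left kv.symm)) with e | e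
      · exact Or.inr (Or.inr (Or.inl (inv_mul_eq_one.1 e).symm))
      · exact Or.inr (Or.inr (Or.inr (inv_mul_eq_iff_eq_mul.1 e)))
  have hz : ∀ v ∈ T, Commute v z := fun v hv => by
    by_cases hvA : v ∈ A
    · exact q.commA hvA q.z_mem
    · rw [← (q.out v hv hvA).1]; exact (Commute.refl v).mul_right (Commute.refl v)
  have hkz := hz k hk
  have hzz := Commute.refl z
  rcases key y hy ky with e | e | e | e <;> rcases key g hg kg with e' | e' | e' | e' <;>
    rw [e, e'] <;> first
      | exact Commute.one_left _ | exact Commute.one_right _ | exact Commute.refl _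
      | exact hkz | exact hkz.symm | exact (Commute.refl _).mul_right hkz
      | exact hkz.symm.mul_right hzz | exact ((Commute.refl _).mul_right hkz).symm
      | exact (hkz.symm.mul_right hzz).symm

theorem QS.commute_of_commute_sq (q : QS T A z) {y a : G} (hy : y ∈ T) (ha : a ∈ T)
    (h1 : y * y ≠ z) (h2 : y * y * (y * y) ≠ 1) (hc : Commute a (y * y)) : Commute a y := by
  have hyA := q.A_of_sq hy h1
  refine q.commA ?_ hyA
  by_contra hn
  exact h2 (q.sq_of_commute_out (mul_mem hyA hyA) ha hn hc.symm)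

theorem perfect_centralizes_cyclic {R B : Subgroup G} (hR : ⁅R, R⁆ = R) (hB : IsCyclic B)
    (hRB : R ≤ normalizer (B : Set G)) : R ≤ centralizer (B : Set G) := by
  obtain ⟨b, hb⟩ := (Subgroup.isCyclic_iff_exists_zpowers_eq_top B).1 hB
  rw [← hR, commutator_le]
  intro r hr r' hr'
  have hbB : b ∈ B := hb ▸ mem_zpowers b
  have hp : ∀ r ∈ R, ∃ i : ℤ, r * b * r⁻¹ = b ^ i := fun r hr => by
    have := (mem_normalizer_iff.1 (hRB hr) b).1 hbB
    rw [← hb] at this
    obtain ⟨i, hi⟩ := mem_zpowers_iff.1 this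
    exact ⟨i, hi.symm⟩
  obtain ⟨i, hi⟩ := hp r hr
  obtain ⟨i', hi'⟩ := hp r⁻¹ (inv_mem hr)
  obtain ⟨j, hj⟩ := hp r' hr'
  obtain ⟨j', hj'⟩ := hp r'⁻¹ (inv_mem hr')
  have hii : b ^ (i * i') = b := by
    rw [zpow_mul, ← hi, conj_zpow, ← hi']; group
  have hjj : b ^ (j * j') = b := by
    rw [zpow_mul, ← hj, conj_zpow, ← hj']; group
  have e3 : ⁅r, r'⁆ * b * ⁅r, r'⁆⁻¹ = b := by
    have f1 : ∀ (g : G) (e m : ℤ), g * b * g⁻¹ = b ^ e → g * b ^ m * g⁻¹ = b ^ (e * m) :=
      fun g e m h => by rw [← conj_zpow, h, ← zpow_mul]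
    rw [commutatorElement_def, show r * r' * r⁻¹ * r'⁻¹ * b * (r * r' * r⁻¹ * r'⁻¹)⁻¹
        = r * (r' * (r⁻¹ * (r'⁻¹ * b * r'⁻¹⁻¹) * r⁻¹⁻¹) * r'⁻¹) * r⁻¹ by group, hj', f1 r⁻¹ i' j' hi',
      f1 r' j _ hj, f1 r i _ hi, show i * (j * (i' * j')) = (i * i') * (j * j') by ring, zpow_mul,
      hii, hjj]
  rw [mem_centralizer_iff]
  intro x hx
  rw [SetLike.mem_coe, ← hb] at hx
  obtain ⟨m, rfl⟩ := mem_zpowers_iff.1 hx
  exact ((show Commute b ⁅r, r'⁆ from (mul_inv_eq_iff_eq_mul.1 e3).symm).zpow_left m).eq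

theorem perm_three_trivial {R : Type*} [Group R] (hR : commutator R = ⊤) {S : Type*} [Fintype S]
    [DecidableEq S] (hS : Fintype.card S ≤ 3) (act : R →* Equiv.Perm S) (r : R) : act r = 1 := by
  have hsign : ∀ r, Equiv.Perm.sign (act r) = 1 := fun r =>
    Abelianization.commutator_subset_ker (Equiv.Perm.sign.comp act) (hR ▸ mem_top r)
  have hle : Nat.card (alternatingGroup S) ≤ 3 := by
    by_cases h1 : Nontrivial S
    · have h2 := two_mul_nat_card_alternatingGroup (α := S)
      rw [Nat.card_perm, Nat.card_eq_fintype_card (α := S)] at h2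
      have : Nat.factorial (Fintype.card S) ≤ 6 := (Nat.factorial_le hS).trans (by decide)
      omega
    · rw [not_nontrivial_iff_subsingleton] at h1
      have : Subsingleton (alternatingGroup S) :=
        ⟨fun p q => Subtype.ext (Equiv.ext fun x => Subsingleton.elim _ _)⟩
      rw [Nat.card_unique]; omega
  have hcomm : ∀ p p' : alternatingGroup S, p * p' = p' * p := by
    by_cases hnt : Nontrivial (alternatingGroup S)
    · intro p p'
      have h4 : 1 < Nat.card (alternatingGroup S) := Finite.one_lt_card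
      have h5 : (Nat.card (alternatingGroup S)).Prime := by
        obtain h | h : Nat.card (alternatingGroup S) = 2 ∨ Nat.card (alternatingGroup S) = 3 := by omega
        · rw [h]; exact Nat.prime_two
        · rw [h]; exact Nat.prime_three
      haveI := Fact.mk h5
      haveI : IsCyclic (alternatingGroup S) := isCyclic_of_prime_card rfl
      letI : CommGroup (alternatingGroup S) := IsCyclic.commGroup
      exact mul_comm p p'
    · rw [not_nontrivial_iff_subsingleton] at hnt
      exact fun p p' => Subsingleton.elim _ _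
  let act' : R →* alternatingGroup S := act.codRestrict _ fun r => hsign r
  letI : CommGroup (alternatingGroup S) := { (inferInstance : Group (alternatingGroup S)) with
    mul_comm := hcomm }
  exact congrArg Subtype.val (MonoidHom.mem_ker.1
    (Abelianization.commutator_subset_ker act' (hR ▸ mem_top r)))

theorem index_two_fixed {R F : Type*} [Group R] [Group F] [Finite F] (hR : commutator R = ⊤)
    (hS : Nat.card {M : Subgroup F // M.index = 2} ≤ 3) (φ : R →* MulAut F) (r : R)
    (M : Subgroup F) (hM : M.index = 2) : M.map (φ r).toMonoidHom = M := by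
  classical
  let f : MulAut F → {M : Subgroup F // M.index = 2} → {M : Subgroup F // M.index = 2} :=
    fun e M => ⟨M.1.map e.toMonoidHom, (Subgroup.index_map_equiv M.1 e).trans M.2⟩
  have hfm : ∀ e e' M, f (e * e') M = f e (f e' M) := fun e e' M => Subtype.ext (by
    show M.1.map _ = (M.1.map _).map _
    rw [map_map]; rfl)
  have hf1 : ∀ M, f 1 M = M := fun M => Subtype.ext (map_id M.1)
  let act : R →* Equiv.Perm {M : Subgroup F // M.index = 2} :=
    { toFun := fun r => ⟨f (φ r), f (φ r)⁻¹, fun M => by rw [← hfm, inv_mul_cancel, hf1],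
        fun M => by rw [← hfm, mul_inv_cancel, hf1]⟩
      map_one' := Equiv.ext fun M => by
        show f (φ 1) M = M
        rw [map_one, hf1]
      map_mul' := fun r r' => Equiv.ext fun M => by
        show f (φ (r * r')) M = f (φ r) (f (φ r') M)
        rw [map_mul, hfm] }
  haveI : Fintype {M : Subgroup F // M.index = 2} := Fintype.ofFinite _
  rw [Nat.card_eq_fintype_card] at hS
  have h := perm_three_trivial hR hS act r
  exact congrArg Subtype.val (Equiv.ext_iff.1 h ⟨M, hM⟩)

theorem card_index_two_le {F : Type*} [Group F] [Finite F] (a x : F)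
    (hgen : closure ({a, x} : Set F) = ⊤) : Nat.card {M : Subgroup F // M.index = 2} ≤ 3 := by
  classical
  let bits : {M : Subgroup F // M.index = 2} → {p : Bool × Bool // p ≠ (true, true)} := fun M =>
    ⟨(decide (a ∈ M.1), decide (x ∈ M.1)), fun h => by
      simp only [Prod.mk.injEq, decide_eq_true_eq] at h
      have htop : M.1 = ⊤ := by
        rw [eq_top_iff, ← hgen, closure_le]
        exact Set.insert_subset h.1 (Set.singleton_subset_iff.2 h.2)
      have h2 := M.2
      rw [htop, index_top] at h2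
      exact absurd h2 (by decide)⟩
  have hinj : Function.Injective bits := by
    intro M M' h
    have h' := congrArg Subtype.val h
    simp only [bits, Prod.mk.injEq, decide_eq_decide] at h'
    let E : Subgroup F :=
      { carrier := {f | f ∈ M.1 ↔ f ∈ M'.1}
        one_mem' := by simp
        mul_mem' := fun {u v} hu hv => by
          simp only [Set.mem_setOf_eq] at *
          rw [mul_mem_iff_of_index_two M.2, mul_mem_iff_of_index_two M'.2, hu, hv]
        inv_mem' := fun {u} hu => by simpa using hu }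
    have hE : E = ⊤ := by
      rw [eq_top_iff, ← hgen, closure_le]
      exact Set.insert_subset h'.1 (Set.singleton_subset_iff.2 h'.2)
    exact Subtype.ext (Subgroup.ext fun f => (hE ▸ mem_top f : f ∈ E))
  refine (Nat.card_le_card_of_injective bits hinj).trans ?_
  rw [Nat.card_eq_fintype_card]
  decide

/-- a perfect group normalizing a 2-group with one involution centralizes it -/
theorem perfect_centralizes {R F : Subgroup G} (hR : ⁅R, R⁆ = R) (hF : IsPGroup 2 F) {z : G}
    (hzF : z ∈ F) (hz : orderOf z = 2) (huniq : ∀ t ∈ F, orderOf t = 2 → t = z)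
    (hRF : R ≤ normalizer (F : Set G)) : R ≤ centralizer (F : Set G) := by
  classical
  have hcyc := fun B => perfect_centralizes_cyclic (R := R) (B := B) hR
  by_cases hFc : IsCyclic F
  · exact hcyc F hFc hRF
  obtain ⟨A, q⟩ := exists_qs hF hzF hz huniq hFc
  obtain ⟨a, ha, hao, -⟩ := q.exists_gen
  obtain ⟨x, hx, hxA⟩ := q.exists_out
  let conjF : R →* MulAut F := F.normalizerMonoidHom.comp (inclusion hRF)
  have hgen : closure ({⟨a, q.le ha⟩, ⟨x, hx⟩} : Set F) = ⊤ := by
    rw [eq_top_iff]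
    rintro ⟨f, hf⟩ -
    have hAz : zpowers a = A := Subgroup.eq_of_le_of_card_ge (zpowers_le.2 ha)
      (by rw [Nat.card_zpowers, hao])
    have hA' : ∀ f ∈ A, ∀ hf : f ∈ F,
        (⟨f, hf⟩ : F) ∈ closure ({⟨a, q.le ha⟩, ⟨x, hx⟩} : Set F) := by
      intro f hfA hf
      rw [← hAz] at hfA
      obtain ⟨m, rfl⟩ := mem_zpowers_iff.1 hfA
      exact zpow_mem (subset_closure (Set.mem_insert _ _)) m
    by_cases hfA : f ∈ A
    · exact hA' f hfA hf
    · have h1 : x⁻¹ * f ∈ A := (q.mul_mem_iff (inv_mem hx) hf).2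
        ⟨fun h => absurd (by simpa using inv_mem h) hxA, fun h => absurd h hfA⟩
      have h2 := mul_mem (subset_closure (Set.mem_insert_of_mem _ (Set.mem_singleton _)) :
        (⟨x, hx⟩ : F) ∈ closure ({⟨a, q.le ha⟩, ⟨x, hx⟩} : Set F)) (hA' _ h1 (q.le h1))
      convert h2 using 1
      exact Subtype.ext (mul_inv_cancel_left x f).symm
  have hperfR : commutator R = ⊤ := by
    apply Subgroup.map_injective R.subtype_injective
    rw [_root_.commutator_def, map_commutator, ← MonoidHom.range_eq_map, range_subtype, hR]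
  have hRA : R ≤ normalizer (A : Set G) := by
    intro r hr
    refine Cfsg.Lib.ZStarApps.mem_normalizer_of_maps fun f hf => ?_
    have h1 := index_two_fixed hperfR (card_index_two_le _ _ hgen) conjF ⟨r, hr⟩ (A.subgroupOf F)
      q.relIndex
    have h2 : conjF ⟨r, hr⟩ ⟨f, q.le hf⟩ ∈ A.subgroupOf F :=
      h1.le (mem_map_of_mem _ (show (⟨f, q.le hf⟩ : F) ∈ A.subgroupOf F from hf))
    exact h2
  have hcA := hcyc A q.cyc hRA
  rw [← hR, commutator_le]
  intro r hr r' hr'
  rw [mem_centralizer_iff]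
  intro f hf
  by_cases hfA : f ∈ A
  · exact mem_centralizer_iff.1
      (hcA (commutator_le_self R (commutator_mem_commutator hr hr'))) f hfA
  have hd : ∀ r ∈ R, ∃ d ∈ A, r * f * r⁻¹ = f * d := by
    intro r hr
    have hrf : r * f * r⁻¹ ∈ F := (mem_normalizer_iff.1 (hRF hr) f).1 hf
    have hrn : r * f * r⁻¹ ∉ A := fun h => hfA ((mem_normalizer_iff.1 (hRA hr) f).2 h)
    refine ⟨f⁻¹ * (r * f * r⁻¹), (q.mul_mem_iff (inv_mem hf) hrf).2
      ⟨fun h => absurd (by simpa using inv_mem h) hfA, fun h => absurd h hrn⟩, ?_⟩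
    rw [mul_inv_cancel_left]
  obtain ⟨d, hd1, hd2⟩ := hd r hr
  obtain ⟨d', hd1', hd2'⟩ := hd r' hr'
  have hfix : ∀ r ∈ R, ∀ d ∈ A, r * d * r⁻¹ = d := fun r hr d hd => by
    rw [← mem_centralizer_iff.1 (hcA hr) d hd, mul_inv_cancel_right]
  have e1 : (r * r') * f * (r * r')⁻¹ = f * d * d' := by
    rw [show (r * r') * f * (r * r')⁻¹ = r * (r' * f * r'⁻¹) * r⁻¹ by group, hd2',
      show r * (f * d') * r⁻¹ = (r * f * r⁻¹) * (r * d' * r⁻¹) by group, hd2, hfix r hr d' hd1']
  have e2 : (r' * r) * f * (r' * r)⁻¹ = f * d * d' := by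
    rw [show (r' * r) * f * (r' * r)⁻¹ = r' * (r * f * r⁻¹) * r'⁻¹ by group, hd2,
      show r' * (f * d) * r'⁻¹ = (r' * f * r'⁻¹) * (r' * d * r'⁻¹) by group, hd2',
      hfix r' hr' d hd1, mul_assoc, (q.commA hd1' hd1).eq, ← mul_assoc]
  have h8 : ((r' * r)⁻¹ * (r * r')) * f = f * ((r' * r)⁻¹ * (r * r')) := by
    have e := e1.trans e2.symm
    calc ((r' * r)⁻¹ * (r * r')) * f = (r' * r)⁻¹ * ((r * r') * f * (r * r')⁻¹) * (r * r') := by group
      _ = (r' * r)⁻¹ * ((r' * r) * f * (r' * r)⁻¹) * (r * r') := by rw [e]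
      _ = _ := by group
  have h9 : Commute ((r * r') * ((r' * r)⁻¹ * (r * r')) * (r * r')⁻¹) ((r * r') * f * (r * r')⁻¹) :=
    (show Commute ((r' * r)⁻¹ * (r * r')) f from h8).map (MulAut.conj (r * r')).toMonoidHom
  rw [show (r * r') * ((r' * r)⁻¹ * (r * r')) * (r * r')⁻¹ = ⁅r, r'⁆ by
    rw [commutatorElement_def]; group, e1] at h9
  have h10 : Commute ⁅r, r'⁆ (d * d') := (mem_centralizer_iff.1
    (hcA (commutator_le_self R (commutator_mem_commutator hr hr'))) _ (mul_mem hd1 hd1')).symm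
  have := h9.mul_right h10.inv_right
  rw [show f * d * d' * (d * d')⁻¹ = f by group] at this
  exact this.symm.eq

end Cfsg.Lib.TwoCompPair
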