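import Cfsg.Agent.Components.TwoCompPair.Fusion
import Cfsg.Agent.Components.PComponentsExtra

/-!
Perfect subnormal subgroups with one involution.
-/

set_option linter.style.haveILetI false
set_option linter.unusedSectionVars false

namespace Cfsg.Lib.TwoCompPair

open Subgroup Cfsg.Lib.Components
open scoped commutatorElement

universe u

variable {G : Type u} [Group G] [Finite G]

theorem coprime_two_of_odd {n : ℕ} (h : Odd n) : n.Coprime 2 := Nat.coprime_two_right.2 h

theorem odd_of_coprime_two {n : ℕ} (h : n.Coprime 2) : Odd n := Nat.coprime_two_right.1 h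

/-- an involution in the product of the layer and the core lies in the layer -/
theorem invol_mem_pLayer {w : G} (hw : orderOf w = 2)
    (h : QuotientGroup.mk' (pPrimeCore 2 G) w ∈ layer (G ⧸ pPrimeCore 2 G)) : w ∈ pLayer 2 G := by
  rw [← pLayer_map_q] at h
  obtain ⟨l, hl, hle⟩ := h
  haveI : (pLayer 2 G).Normal := pLayer_normal
  set π := QuotientGroup.mk' (pLayer 2 G)
  have hd : l⁻¹ * w ∈ pPrimeCore 2 G := QuotientGroup.eq.1 hle
  have h1 : π w = π (l⁻¹ * w) := by
    rw [map_mul, map_inv, show π l = 1 from (QuotientGroup.eq_one_iff l).2 hl, inv_one, one_mul]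
  have hodd : Odd (Nat.card ((pPrimeCore 2 G).map π)) :=
    Odd.of_dvd_nat (odd_of_coprime_two (coprime_card_pPrimeCore 2)) (card_map_dvd _ _)
  exact (QuotientGroup.eq_one_iff w).1 (eq_one_of_two_odd hodd (x := π w) (h1 ▸ mem_map_of_mem π hd)
    (isPGroup_zpowers_map (isPGroup_zpowers_invol (mul_self_of_two hw)) π))

theorem eq_one_of_perfect_no_comp {H : Type*} [Group H] [Finite H] (hperf : commutator H = ⊤)
    (hO : pPrimeCore 2 H = ⊥) (hlay : layer H = ⊥) {w : H}
    (hw : orderOf w = 2) (huniq : ∀ t : H, orderOf t = 2 → t = w) : False := by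
  haveI : Fact (Nat.Prime 2) := ⟨Nat.prime_two⟩
  set F := pCore 2 H with hF
  have hFp : IsPGroup 2 F := isPGroup_pCore 2
  have hgen : generalizedFittingSubgroup H = F := by
    rw [generalizedFittingSubgroup, hlay, bot_sup_eq, fitting_eq_pCore hO]
  have hcent : centralizer (F : Set H) ≤ F := hgen ▸ centralizer_genFitting_le
  have hne : F ≠ ⊥ := by
    intro h0
    rw [h0] at hcent
    exact ne_one_of_two hw (mem_bot.1 (hcent (show w ∈ centralizer ((⊥ : Subgroup H) : Set H) from
      fun x hx => by rw [mem_bot.1 hx, one_mul, mul_one])))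
  have h2 : 2 ∣ Nat.card F := by
    obtain ⟨i, hi⟩ := IsPGroup.iff_card.1 hFp
    cases i with
    | zero => exact absurd (Subgroup.eq_bot_of_card_eq F (by rw [hi, pow_zero])) hne
    | succ i => exact hi ▸ dvd_pow_self 2 (Nat.succ_ne_zero i)
  obtain ⟨⟨c, hc⟩, hco⟩ := exists_prime_orderOf_dvd_card' 2 h2
  have hco' : orderOf c = 2 := (Subgroup.orderOf_coe (⟨c, hc⟩ : F)).trans hco
  have htop : (⊤ : Subgroup H) ≤ centralizer (F : Set H) :=
    perfect_centralizes (R := ⊤) ((commutator_def H).symm.trans hperf) hFp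
      (huniq c hco' ▸ hc) hw (fun t _ ht => huniq t ht) le_normalizer_of_normal
  have hH : IsPGroup 2 (⊤ : Subgroup H) := hFp.to_le (htop.trans hcent)
  have hnil : Group.IsNilpotent (⊤ : Subgroup H) := hH.isNilpotent
  haveI := hnil
  have hsol : Group.IsSolvable H :=
    Group.isSolvable_of_surjective (f := (⊤ : Subgroup H).subtype) fun x => ⟨⟨x, mem_top x⟩, rfl⟩
  exact ne_one_of_two hw (perfect_solvable_trivial hperf hsol w)

/-- the involution of a perfect subnormal subgroup with one involution lies in the 2-layer -/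
theorem invol_mem_pLayer_of_perfect {R : Subgroup G} (hR : R.IsSubnormal) (hperf : ⁅R, R⁆ = R)
    {w : G} (hwR : w ∈ R) (hw : orderOf w = 2) (huniq : ∀ t ∈ R, orderOf t = 2 → t = w) :
    w ∈ pLayer 2 G := by
  haveI : Fact (Nat.Prime 2) := ⟨Nat.prime_two⟩
  apply invol_mem_pLayer hw
  by_contra hcon
  set q := QuotientGroup.mk' (pPrimeCore 2 G)
  set R' := R.map q with hR'
  have hR'sn : R'.IsSubnormal := hR.quotient
  have hO : pPrimeCore 2 (G ⧸ pPrimeCore 2 G) = ⊥ := pPrimeCore_quotient_eq_bot
  have hlift : ∀ t : R', orderOf t = 2 → (t : G ⧸ pPrimeCore 2 G) = q w := by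
    rintro ⟨_, a, ha, rfl⟩ ht
    have ht' : orderOf (q a) = 2 := (Subgroup.orderOf_coe (⟨q a, mem_map_of_mem q ha⟩ : R')).trans ht
    obtain ⟨i, r, hr, hir⟩ := Nat.exists_eq_two_pow_mul_odd (orderOf_pos a).ne'
    obtain ⟨j, rfl⟩ := hr
    have hsq : q a * q a = 1 := mul_self_of_two ht'
    have hqar : q (a ^ (2 * j + 1)) = q a := by
      rw [map_pow, pow_succ, pow_mul, pow_two, hsq, one_pow, one_mul]
    set b := a ^ (2 * j + 1) with hb
    have hbR : b ∈ R := pow_mem ha _
    have hbp : IsPGroup 2 (zpowers b) := isPGroup_zpowers_of_sq (k := i)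
      (by rw [hb, ← pow_mul, mul_comm, ← hir, pow_orderOf_eq_one])
    have hb2 : b * b = 1 := by
      refine eq_one_of_two_odd (odd_of_coprime_two (coprime_card_pPrimeCore (G := G) 2))
        ((QuotientGroup.eq_one_iff _).1 (show q (b * b) = 1 by rw [map_mul, hqar, hsq])) ?_
      exact hbp.to_le (zpowers_le.2 (mul_mem (mem_zpowers b) (mem_zpowers b)))
    have hb1 : b ≠ 1 := fun h => by
      rw [h, map_one] at hqar
      rw [← hqar, orderOf_one] at ht'
      exact absurd ht' (by decide)
    show q a = q w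
    rw [← hqar, huniq b hbR (orderOf_eq_two hb2 hb1)]
  have hwne : q w ≠ 1 := fun h => by
    apply hcon
    rw [h]; exact one_mem _
  have hOR : pPrimeCore 2 R' = ⊥ := by
    apply Subgroup.map_injective R'.subtype_injective
    rw [pPrimeCore_map_subtype_eq hR'sn, hO, bot_inf_eq, Subgroup.map_bot]
  have hlay : layer R' = ⊥ := by
    rw [layer, sSup_eq_bot]
    intro C hC
    exfalso
    have hC' := (comp_map_subtype_iff hR'sn).2 hC
    obtain ⟨⟨t, htC⟩, hto⟩ := exists_prime_orderOf_dvd_card' 2 (comp_dvd_card hOR hC)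
    have ht' : orderOf t = 2 := (Subgroup.orderOf_coe (⟨t, htC⟩ : C)).trans hto
    exact hcon ((hlift t ht') ▸ comp_le_layer hC' ⟨t, htC, rfl⟩)
  have hperf' : commutator R' = ⊤ := by
    apply Subgroup.map_injective R'.subtype_injective
    rw [_root_.commutator_def, Subgroup.map_commutator, ← MonoidHom.range_eq_map, range_subtype, hR',
      ← Subgroup.map_commutator, hperf]
  refine eq_one_of_perfect_no_comp hperf' hOR hlay (w := ⟨q w, mem_map_of_mem q hwR⟩) ?_
    fun t ht => Subtype.ext (hlift t ht)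
  rw [← Subgroup.orderOf_coe]
  exact orderOf_eq_two (by rw [← map_mul, mul_self_of_two hw, map_one]) hwne

end Cfsg.Lib.TwoCompPair
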